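import Cfsg.Agent.Lib.TwoPrimes.Simple
import Cfsg.Agent.Lib.CASimple.Main
import Cfsg.Agent.Lib.Classical.SL

/-!
The simple group with at most two primes per class size and abelian Sylow subgroups.
-/

set_option autoImplicit false
set_option linter.style.haveILetI false
set_option linter.unusedSectionVars false

namespace Cfsg.Agent.TwoPrimes

open Subgroup ThreeSizes

universe u

variable {G : Type u} [Group G] [Finite G]

namespace Hyp

variable (H : Hyp G) {q r : ℕ} (R : Primes G q r)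

include H

/-- The type of an element of an abelian Sylow subgroup. -/
theorem typ_pel {l : ℕ} [Fact l.Prime] (hab : ∀ P : Sylow l G, IsMulCommutative (P : Subgroup G))
    {x : G} (hx : PEl l x) : Typ l x := by
  have hz : IsPGroup l (zpowers x) := PEl.isPGroup_of_forall fun y hy => by
    obtain ⟨n, rfl⟩ := mem_zpowers_iff.1 hy
    obtain ⟨k, hk⟩ := hx
    exact ⟨k, by rw [← zpow_natCast, ← zpow_mul, mul_comm, zpow_mul, zpow_natCast, hk, one_zpow]⟩
  obtain ⟨P, hP⟩ := hz.exists_le_sylow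
  haveI := hab P
  exact typ_of_mem P (hP (mem_zpowers x))

/-- The centralizer of a `p`-element of type `p` is a `p`-group when the other Sylow subgroups
are abelian. -/
theorem isPGroup_cent {p : ℕ} [hp : Fact p.Prime] (hp' : p ∣ Nat.card G)
    (hab : ∀ (l : ℕ) [Fact l.Prime], l ≠ p → ∀ P : Sylow l G, IsMulCommutative (P : Subgroup G))
    {x : G} (hx1 : x ≠ 1) (hx : PEl p x) (ht : Typ p x) : IsPGroup p (cent x) := by
  have hfac : ∀ l : ℕ, l.Prime → l ∣ Nat.card (cent x) → l = p := by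
    intro l hl hd
    by_contra hne
    haveI := Fact.mk hl
    obtain ⟨a, ha⟩ := exists_prime_orderOf_dvd_card' l hd
    have ha' : (a : G) ^ l = 1 := by rw [← ha, ← Subgroup.orderOf_coe, pow_orderOf_eq_one]
    have ha1 : (a : G) ≠ 1 := fun e => by
      rw [← Subgroup.orderOf_coe, e, orderOf_one] at ha
      exact hl.one_lt.ne ha
    have hal : PEl l (a : G) := ⟨1, by rw [pow_one]; exact ha'⟩
    have hlG : l ∈ (Nat.card G).primeFactors :=
      Nat.mem_primeFactors.2 ⟨hl, hd.trans (card_subgroup_dvd_card _), Nat.card_pos.ne'⟩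
    exact hne (H.typ_commute (mem_cent.1 a.2) hl hp.out hne hal hx ha1 hx1 hlG
      (Nat.mem_primeFactors.2 ⟨hp.out, hp', Nat.card_pos.ne'⟩) (H.typ_pel (hab l hne) hal) ht)
  refine IsPGroup.of_card (n := (Nat.card (cent x)).primeFactorsList.length) ?_
  exact Nat.eq_prime_pow_of_unique_prime_dvd Nat.card_pos.ne' fun {d} hd hdd => hfac d hd hdd

theorem exists_sylow_cent_eq {p : ℕ} [hp : Fact p.Prime] (hp' : p ∣ Nat.card G)
    (hab : ∀ (l : ℕ) [Fact l.Prime], l ≠ p → ∀ P : Sylow l G, IsMulCommutative (P : Subgroup G))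
    {x : G} (hx1 : x ≠ 1) (hx : PEl p x) (ht : Typ p x) :
    ∃ P : Sylow p G, cent x = (P : Subgroup G) := by
  obtain ⟨P, hP⟩ := ht.exists_sylow_le
  exact ⟨P, P.is_maximal' (H.isPGroup_cent hp' hab hx1 hx ht) hP⟩

/-- With abelian Sylow subgroups they are the centralizers of their nontrivial elements. -/
theorem cent_eq_sylow {p : ℕ} [hp : Fact p.Prime]
    (hab : ∀ (l : ℕ) [Fact l.Prime] (P : Sylow l G), IsMulCommutative (P : Subgroup G))
    (P : Sylow p G) {x : G} (hx : x ∈ (P : Subgroup G)) (hx1 : x ≠ 1) :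
    cent x = (P : Subgroup G) := by
  haveI := hab p P
  have hxp : PEl p x := PEl.of_isPGroup P.isPGroup' hx
  have hd : p ∣ Nat.card G := by
    obtain ⟨k, hk⟩ := IsPGroup.iff_card.1 P.isPGroup'
    rcases Nat.eq_zero_or_pos k with rfl | hk0
    · rw [pow_zero] at hk
      exact absurd ((Subgroup.eq_bot_of_card_eq _ hk) ▸ hx : x ∈ (⊥ : Subgroup G))
        (by simpa using hx1)
    · exact ((dvd_pow_self p hk0.ne').trans (dvd_of_eq hk.symm)).trans (card_subgroup_dvd_card _)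
  exact P.is_maximal' (H.isPGroup_cent hd (fun l _ _ => hab l) hx1 hxp (typ_of_mem P hx))
    (fun y hy => mem_cent.2 (mem_centralizer_iff.1 (le_centralizer _ hx) y hy))

theorem ct (hab : ∀ (l : ℕ) [Fact l.Prime] (P : Sylow l G), IsMulCommutative (P : Subgroup G)) :
    CASimple.CT G := by
  intro x y z hx hxy hxz
  have hne : orderOf x ≠ 1 := fun e => hx (orderOf_eq_one_iff.1 e)
  obtain ⟨l, hl, hd⟩ := Nat.exists_prime_and_dvd hne
  haveI := Fact.mk hl
  set x0 := x ^ (orderOf x / l)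
  have h0 : orderOf x0 = l := orderOf_pow_orderOf_div (orderOf_pos x).ne' hd
  have hx0 : x0 ≠ 1 := fun e => by
    rw [e, orderOf_one] at h0
    exact hl.one_lt.ne h0
  have hz : IsPGroup l (zpowers x0) := IsPGroup.of_card (n := 1) (by rw [Nat.card_zpowers, h0, pow_one])
  obtain ⟨P, hP⟩ := hz.exists_le_sylow
  have hc := H.cent_eq_sylow hab P (hP (mem_zpowers _)) hx0
  have hy : y ∈ (P : Subgroup G) := hc ▸ cent_le_cent_pow x _ (mem_cent.2 hxy.symm)
  have hz' : z ∈ (P : Subgroup G) := hc ▸ cent_le_cent_pow x _ (mem_cent.2 hxz.symm)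
  haveI := hab l P
  exact congrArg Subtype.val (mul_comm' (⟨y, hy⟩ : (P : Subgroup G)) ⟨z, hz'⟩)

end Hyp

/-- `2 ^ f ± 1` are both prime powers only for `f = 2, 3`. -/
theorem pow_cases {f : ℕ} (hf : 2 ≤ f) (hm : IsPrimePow (2 ^ f - 1)) (hp : IsPrimePow (2 ^ f + 1)) :
    f = 2 ∨ f = 3 := by
  rcases Nat.even_or_odd f with ⟨j, rfl⟩ | ⟨j, rfl⟩
  · left
    obtain ⟨p, k, hp', hk, he⟩ := (isPrimePow_nat_iff _).1 hm
    have hj : 1 ≤ j := by omega
    have h2 : 2 ≤ 2 ^ j := Nat.le_self_pow (by omega) 2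
    have hfac : (2 ^ j - 1) * (2 ^ j + 1) = p ^ k := by
      rw [he, pow_add]
      obtain ⟨c, hc⟩ : ∃ c, 2 ^ j = c + 1 := ⟨2 ^ j - 1, by omega⟩
      rw [hc, Nat.add_sub_cancel, show (c + 1) * (c + 1) = c * (c + 1 + 1) + 1 by ring,
        Nat.add_sub_cancel]
    obtain ⟨a, -, ha⟩ := (Nat.dvd_prime_pow hp').1 (Dvd.intro _ hfac)
    obtain ⟨b, -, hb⟩ := (Nat.dvd_prime_pow hp').1 (Dvd.intro_left _ hfac)
    rcases Nat.eq_zero_or_pos a with rfl | ha0
    · have : 2 ^ j = 2 ^ 1 := by rw [pow_zero] at ha; omega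
      have := Nat.pow_right_injective (le_refl 2) this
      omega
    · exfalso
      have hb0 : b ≠ 0 := fun e => by rw [e, pow_zero] at hb; omega
      have d1 : p ∣ 2 ^ j - 1 := ha ▸ dvd_pow_self p ha0.ne'
      have d2 : p ∣ 2 ^ j + 1 := hb ▸ dvd_pow_self p hb0
      have d3 : p ∣ 2 := by
        have := Nat.dvd_sub d2 d1
        rwa [show 2 ^ j + 1 - (2 ^ j - 1) = 2 by omega] at this
      have : p = 2 := (Nat.prime_dvd_prime_iff_eq hp' Nat.prime_two).1 d3
      subst this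
      have : 2 ∣ 2 ^ j := dvd_pow_self 2 (by omega)
      omega
  · right
    obtain ⟨p, k, hp', hk, he⟩ := (isPrimePow_nat_iff _).1 hp
    have hj : 1 ≤ j := by omega
    have h3 : 3 ∣ 2 ^ (2 * j + 1) + 1 := by
      rw [pow_succ, pow_mul]
      have : (2 ^ 2) ^ j % 3 = 1 := by rw [Nat.pow_mod]; norm_num
      omega
    have : p = 3 := ((Nat.prime_dvd_prime_iff_eq Nat.prime_three hp').1
      (Nat.prime_three.dvd_of_dvd_pow (he ▸ h3))).symm
    subst this
    have h8 : 8 ≤ 2 ^ (2 * j + 1) := by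
      calc 8 = 2 ^ 3 := by norm_num
        _ ≤ _ := Nat.pow_le_pow_right (by norm_num) (by omega)
    rcases Nat.even_or_odd k with ⟨i, rfl⟩ | ⟨i, rfl⟩
    · obtain ⟨c, hc⟩ : ∃ c, 3 ^ i = c + 1 :=
        ⟨3 ^ i - 1, by have := Nat.one_le_pow i 3 (by norm_num); omega⟩
      have hfac : c * (c + 2) = 2 ^ (2 * j + 1) := by
        have h1 : 3 ^ (i + i) = c * (c + 2) + 1 := by rw [pow_add, hc]; ring
        exact Nat.succ_injective (h1.symm.trans he)
      obtain ⟨a, -, ha⟩ := (Nat.dvd_prime_pow Nat.prime_two).1 (Dvd.intro _ hfac)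
      obtain ⟨b, -, hb⟩ := (Nat.dvd_prime_pow Nat.prime_two).1 (Dvd.intro_left _ hfac)
      rcases (show a = 0 ∨ a = 1 ∨ 2 ≤ a by omega) with rfl | rfl | ha2
      · rw [pow_zero] at ha
        subst ha
        omega
      · rw [pow_one] at ha
        subst ha
        have : 2 ^ (2 * j + 1) = 2 ^ 3 := by omega
        exact Nat.pow_right_injective (le_refl 2) this
      · exfalso
        have h4 : 4 ∣ c := ha ▸ (show 4 = 2 ^ 2 by norm_num) ▸ pow_dvd_pow 2 ha2
        have hb2 : b = 1 := by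
          by_contra hb2
          rcases (show b = 0 ∨ 2 ≤ b by omega) with rfl | hb3
          · rw [pow_zero] at hb; omega
          · have h4' : 4 ∣ c + 2 := hb ▸ (show 4 = 2 ^ 2 by norm_num) ▸ pow_dvd_pow 2 hb3
            omega
        rw [hb2, pow_one] at hb
        rw [show c = 0 by omega] at hfac
        omega
    · exfalso
      have h1 : 3 ^ (2 * i + 1) % 8 = 3 := by
        rw [pow_succ, pow_mul, Nat.mul_mod, Nat.pow_mod]
        norm_num
      have h2 : 2 ^ 3 ∣ 2 ^ (2 * j + 1) := pow_dvd_pow 2 (by omega)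
      norm_num at h2
      generalize 3 ^ (2 * i + 1) = A at *
      generalize 2 ^ (2 * j + 1) = B at *
      omega

/-- The order of `PSL(2, 2 ^ f)`. -/
theorem card_psl_two_pow (f : ℕ) (hf : f ≠ 0) :
    Nat.card (Matrix.ProjectiveSpecialLinearGroup (Fin 2) (GaloisField 2 f)) =
      2 ^ f * ((2 ^ f - 1) * (2 ^ f + 1)) := by
  classical
  letI : Fintype (GaloisField 2 f) := Fintype.ofFinite _
  have hF : Fintype.card (GaloisField 2 f) = 2 ^ f := by
    rw [← Nat.card_eq_fintype_card, GaloisField.card 2 f hf]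
  have h := ClassicalSL.card_psl_mul (ι := Fin 2) (F := GaloisField 2 f)
  rw [Matrix.card_GL_field, Fintype.card_fin,
    Fin.prod_univ_two, Nat.card_eq_fintype_card (α := GaloisField 2 f), hF] at h
  have h2 : 2 ≤ 2 ^ f := Nat.le_self_pow hf 2
  have hg : Nat.gcd 2 (2 ^ f - 1) = 1 := by
    rw [Nat.prime_two.coprime_iff_not_dvd.2]
    have : 2 ∣ 2 ^ f := dvd_pow_self 2 hf
    omega
  rw [hg, one_mul] at h
  simp only [Fin.val_zero, Fin.val_one, pow_zero, pow_one] at h
  obtain ⟨c, hc⟩ : ∃ c, 2 ^ f = c + 1 := ⟨2 ^ f - 1, by omega⟩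
  rw [hc, Nat.add_sub_cancel] at h ⊢
  have e1 : (c + 1) ^ 2 - 1 = c * (c + 2) := by
    rw [show (c + 1) ^ 2 = c * (c + 2) + 1 by ring, Nat.add_sub_cancel]
  have e2 : (c + 1) ^ 2 - (c + 1) = c * (c + 1) := by
    rw [show (c + 1) ^ 2 = c * (c + 1) + (c + 1) by ring, Nat.add_sub_cancel]
  rw [e1, e2] at h
  have hc0 : 0 < c := by omega
  apply Nat.eq_of_mul_eq_mul_left hc0
  rw [h]
  ring

namespace Hyp

variable (H : Hyp G)

include H

/-- The two possibilities. -/
theorem abelian_case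
    (hab : ∀ (l : ℕ) [Fact l.Prime] (P : Sylow l G), IsMulCommutative (P : Subgroup G)) :
    ∃ f, (f = 2 ∨ f = 3) ∧ Nat.card G = 2 ^ f * ((2 ^ f - 1) * (2 ^ f + 1)) ∧
      Nonempty (G ≃* Matrix.ProjectiveSpecialLinearGroup (Fin 2) (GaloisField 2 f)) := by
  classical
  haveI := H.simple
  obtain ⟨f, hf, ⟨e⟩⟩ := CASimple.classification H.nonab (H.ct hab)
  have hcard : Nat.card G = 2 ^ f * ((2 ^ f - 1) * (2 ^ f + 1)) := by
    rw [Nat.card_congr e.toEquiv, card_psl_two_pow f (by omega)]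
  have h4 : 4 ≤ 2 ^ f := (show (4:ℕ) = 2 ^ 2 by norm_num) ▸ Nat.pow_le_pow_right (by norm_num) hf
  have heven : 2 ∣ 2 ^ f := dvd_pow_self 2 (by omega)
  have hco : Nat.Coprime (2 ^ f - 1) (2 ^ f + 1) := by
    obtain ⟨c, hc⟩ : ∃ c, 2 ^ f = c + 1 := ⟨2 ^ f - 1, by omega⟩
    rw [hc, Nat.add_sub_cancel, show c + 1 + 1 = 2 + c by ring, Nat.coprime_add_self_right,
      Nat.coprime_comm, Nat.prime_two.coprime_iff_not_dvd]
    omega
  have hco2 : Nat.Coprime (2 ^ f) ((2 ^ f - 1) * (2 ^ f + 1)) := by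
    refine Nat.Coprime.pow_left _ ?_
    rw [Nat.prime_two.coprime_iff_not_dvd, Nat.prime_two.dvd_mul]
    omega
  have hpi := H.card_pi
  rw [hcard, Nat.Coprime.primeFactors_mul hco2, Finset.card_union_of_disjoint hco2.disjoint_primeFactors,
    Nat.primeFactors_prime_pow (by omega) Nat.prime_two, Finset.card_singleton,
    Nat.Coprime.primeFactors_mul hco,
    Finset.card_union_of_disjoint hco.disjoint_primeFactors] at hpi
  have pos : ∀ n, 2 ≤ n → 1 ≤ n.primeFactors.card := fun n hn =>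
    Finset.card_pos.2 (Nat.nonempty_primeFactors.2 hn)
  have p1 := pos (2 ^ f - 1) (by omega)
  have p2 := pos (2 ^ f + 1) (by omega)
  exact ⟨f, pow_cases hf (isPrimePow_iff_card_primeFactors_eq_one.2 (by omega))
    (isPrimePow_iff_card_primeFactors_eq_one.2 (by omega)), hcard, ⟨e⟩⟩

end Hyp

end Cfsg.Agent.TwoPrimes
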