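import Cfsg.Agent.Lib.TwoPrimes.SimpleFacts
import Cfsg.Agent.S0813
import Cfsg.Agent.Lib.GW.AutTarget
import Mathlib.GroupTheory.GroupAction.ConjAct

/-!
Almost simple groups with two-prime class sizes are simple.
-/

set_option autoImplicit false
set_option linter.style.haveILetI false
set_option linter.unusedSectionVars false

namespace Cfsg.Agent.TwoPrimes

open Subgroup ThreeSizes

universe u

variable {X : Type u} [Group X] [Finite X] {S : Subgroup X} [S.Normal]

theorem centralizer_eq_of_action (H : Hyp S) (hC : centralizer (S : Set X) = ⊥)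
    (hd : 2 ∣ Nat.card S) (P : Subgroup S) [hP : IsMulCommutative P]
    (F : Finset (Sylow 2 S)) (hF : F.card ≤ 1) (hfix : ∀ R ∈ F, ∀ u ∈ P, u • R = R)
    (hfree : ∀ R ∉ F, ∀ u ∈ P, u • R = R → u = 1) (hP1 : P ≠ ⊥)
    (hcard : Nat.card P + F.card = Nat.card (Sylow 2 S)) :
    centralizer ((P.map S.subtype : Subgroup X) : Set X) ≤ P.map S.subtype := by
  classical
  haveI : Fact (Nat.Prime 2) := ⟨Nat.prime_two⟩
  haveI := H.simple
  haveI := Fintype.ofFinite (Sylow 2 S)
  haveI := Fintype.ofFinite P
  intro g hg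
  set φ : X →* MulAut S := MulAut.conjNormal
  have hconj : ∀ (u : S) (R : Sylow 2 S), φ (u : X) • R = u • R := fun u R => by
    have : φ (u : X) = MulAut.conj u := MulEquiv.ext fun a => Subtype.ext (by
      simp [φ])
    rw [this]
    rfl
  have hgu : ∀ u ∈ P, ∀ R : Sylow 2 S, φ g • (u • R) = u • (φ g • R) := by
    intro u hu R
    rw [← hconj, ← hconj, ← mul_smul, ← mul_smul, ← map_mul, ← map_mul,
      mem_centralizer_iff.1 hg (u : X) ⟨u, hu, rfl⟩]
  obtain ⟨u1, hu1⟩ : ∃ u1 : P, u1 ≠ 1 := by
    haveI := (Subgroup.nontrivial_iff_ne_bot P).2 hP1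
    exact exists_ne 1
  have hgF : ∀ R, φ g • R ∈ F ↔ R ∈ F := by
    have key : ∀ R, R ∈ F ↔ (u1 : S) • R = R := fun R =>
      ⟨fun h => hfix R h u1 u1.2, fun h => by_contra fun hR => hu1 (Subtype.ext (hfree R hR u1 u1.2 h))⟩
    intro R
    rw [key, key, ← hgu u1 u1.2 R, smul_left_cancel_iff]
  obtain ⟨R0, hR0⟩ : ∃ R0, R0 ∉ F := by
    by_contra hcon
    push Not at hcon
    have h1 : Fintype.card (Sylow 2 S) ≤ F.card :=
      Finset.card_le_card fun R (_ : R ∈ Finset.univ) => hcon R
    rw [← Nat.card_eq_fintype_card, ← hcard] at h1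
    have := Nat.card_pos (α := P)
    omega
  have htrans : ∀ R ∉ F, ∃ v ∈ P, v • R0 = R := by
    intro R hR
    set O : Finset (Sylow 2 S) := (Finset.univ : Finset P).image fun v : P => (v : S) • R0 with hO
    have hinj : Function.Injective fun v : P => (v : S) • R0 := by
      intro v w h
      have h1 : ((w⁻¹ * v : P) : S) • R0 = R0 := by
        have h' : (v : S) • R0 = (w : S) • R0 := h
        rw [Subgroup.coe_mul, mul_smul, h', ← mul_smul, ← Subgroup.coe_mul, inv_mul_cancel,
          Subgroup.coe_one, one_smul]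
      exact (inv_mul_eq_one.1 (Subtype.ext (hfree R0 hR0 _ (w⁻¹ * v).2 h1))).symm
    have hsub : O ⊆ Finset.univ \ F := by
      intro R' hR'
      rw [hO, Finset.mem_image] at hR'
      obtain ⟨v, -, rfl⟩ := hR'
      refine Finset.mem_sdiff.2 ⟨Finset.mem_univ _, fun h => hR0 ?_⟩
      have h2 := hfix _ h (v : S)⁻¹ (inv_mem v.2)
      rw [inv_smul_smul] at h2
      rw [← h2] at h
      exact h
    have heq : O = Finset.univ \ F := by
      refine Finset.eq_of_subset_of_card_le hsub ?_
      rw [hO, Finset.card_image_of_injective _ hinj, Finset.card_univ,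
        Finset.card_sdiff_of_subset (Finset.subset_univ _), Finset.card_univ, ← Nat.card_eq_fintype_card,
        ← Nat.card_eq_fintype_card, ← hcard]
      omega
    have : R ∈ O := heq ▸ Finset.mem_sdiff.2 ⟨Finset.mem_univ _, hR⟩
    rw [hO, Finset.mem_image] at this
    obtain ⟨v, -, hv⟩ := this
    exact ⟨v, v.2, hv⟩
  obtain ⟨u, hu, hu0⟩ := htrans (φ g • R0) (fun h => hR0 ((hgF R0).1 h))
  have hall : ∀ R : Sylow 2 S, φ g • R = u • R := by
    intro R
    by_cases hR : R ∈ F
    · rw [hfix R hR u hu]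
      exact Finset.card_le_one.1 hF _ ((hgF R).2 hR) _ hR
    · obtain ⟨v, hv, rfl⟩ := htrans R hR
      rw [hgu v hv, ← hu0, ← mul_smul, ← mul_smul]
      congr 1
      exact congrArg Subtype.val (mul_comm' (⟨v, hv⟩ : P) ⟨u, hu⟩)
  set h := g * (u : X)⁻¹ with hh
  have hh' : ∀ R : Sylow 2 S, φ h • R = R := fun R => by
    rw [hh, map_mul, mul_smul, ← Subgroup.coe_inv, hconj, hall, smul_inv_smul]
  -- the kernel of the action is trivial
  have hker : (MulAction.toPermHom S (Sylow 2 S)).ker = ⊥ := by
    refine (inferInstance : (MulAction.toPermHom S (Sylow 2 S)).ker.Normal).eq_bot_or_eq_top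
      |>.resolve_right fun e => H.card_sylow_ne_one hd ?_
    rw [Nat.card_eq_one_iff_unique]
    refine ⟨⟨fun a b => ?_⟩, inferInstance⟩
    obtain ⟨x, hx⟩ := MulAction.exists_smul_eq S a b
    rw [← hx]
    exact (Equiv.Perm.ext_iff.1 (MonoidHom.mem_ker.1 (e ▸ mem_top x : x ∈ _)) a).symm
  have hcen : h ∈ centralizer (S : Set X) := by
    refine mem_centralizer_iff.2 fun x hx => ?_
    set y : S := φ h ⟨x, hx⟩ with hy
    have hmem : (⟨x, hx⟩ : S)⁻¹ * y ∈ (MulAction.toPermHom S (Sylow 2 S)).ker := by
      refine MonoidHom.mem_ker.2 (Equiv.ext fun R => ?_)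
      show ((⟨x, hx⟩ : S)⁻¹ * y) • R = R
      have hy' : (y : X) = h * x * h⁻¹ := by simp [hy, φ]
      rw [mul_smul, inv_smul_eq_iff, ← hconj, ← hconj, hy', map_mul, map_mul, map_inv, mul_smul,
        mul_smul]
      rw [show (φ h)⁻¹ • R = R from inv_smul_eq_iff.2 (hh' R).symm, hh']
    rw [hker, mem_bot, inv_mul_eq_one] at hmem
    have hy' : (y : X) = h * x * h⁻¹ := by simp [hy, φ]
    have hx' : x = h * x * h⁻¹ := (congrArg Subtype.val hmem).trans hy'
    calc x * h = h * x * h⁻¹ * h := by rw [← hx']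
      _ = h * x := by group
  rw [hC, mem_bot] at hcen
  rw [hh, mul_inv_eq_one] at hcen
  exact ⟨u, hu, hcen.symm⟩

theorem card_sup_inf (N : Subgroup X) [N.Normal] (K : Subgroup X) :
    Nat.card (N ⊔ K : Subgroup X) * Nat.card (N ⊓ K : Subgroup X) = Nat.card N * Nat.card K :=
  SolvBasic.card_sup_mul_card_inf le_normalizer_of_normal

theorem normalizer_map_inf (P : Subgroup S) :
    normalizer ((P.map S.subtype : Subgroup X) : Set X) ⊓ S =
      (normalizer (P : Set S)).map S.subtype := by
  ext a
  constructor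
  · rintro ⟨ha, haS⟩
    refine ⟨⟨a, haS⟩, mem_normalizer_iff.2 fun b => ?_, rfl⟩
    have := mem_normalizer_iff.1 ha (b : X)
    have hm : ∀ c : S, (c : X) ∈ P.map S.subtype ↔ c ∈ P := fun c =>
      ⟨fun ⟨d, hd, he⟩ => (Subtype.ext he : d = c) ▸ hd, fun h => ⟨c, h, rfl⟩⟩
    exact (hm b).symm.trans (this.trans (hm (⟨a, haS⟩ * b * ⟨a, haS⟩⁻¹)))
  · rintro ⟨c, hc, rfl⟩
    refine ⟨mem_normalizer_iff.2 fun b => ?_, c.2⟩
    constructor
    · rintro ⟨d, hd, rfl⟩
      exact ⟨c * d * c⁻¹, (mem_normalizer_iff.1 hc d).1 hd, rfl⟩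
    · rintro ⟨d, hd, he⟩
      refine ⟨c⁻¹ * d * c, ?_, ?_⟩
      · have := (mem_normalizer_iff.1 (inv_mem hc) d).1 hd
        rwa [inv_inv] at this
      · simp only [map_mul, map_inv, Subgroup.coe_subtype] at he ⊢
        rw [he]; group

/-- Bound for a Sylow subgroup contained in `S`. -/
theorem reg_mul_le (H : Hyp S) {p : ℕ} [Fact p.Prime] (hd : p ∣ Nat.card S)
    (hpm : ¬ p ∣ S.index) (P : Sylow p S) :
    (ClassCover.regSet (G := X) p).ncard * (kk (P : Subgroup S)) ≤ Nat.card X ∧
      (centralizer (((P : Subgroup S).map S.subtype : Subgroup X) : Set X) ≤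
          (P : Subgroup S).map S.subtype →
        (ClassCover.regSet (G := X) p).ncard * (kk (P : Subgroup S) * S.index) ≤ Nat.card X) := by
  classical
  set Pm := (P : Subgroup S).map S.subtype with hPm
  have hPmc : Nat.card Pm = Nat.card P := card_map_of_injective S.subtype_injective
  have hc : Nat.card Pm = p ^ (Nat.card X).factorization p := by
    rw [hPmc, P.card_eq_multiplicity, ← S.card_mul_index,
      Nat.factorization_mul Nat.card_pos.ne' S.index_ne_zero_of_finite, Finsupp.add_apply,
      Nat.factorization_eq_zero_of_not_dvd hpm, add_zero]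
  set PX : Sylow p X := Sylow.ofCard Pm hc
  have hPX : (PX : Subgroup X) = Pm := Sylow.coe_ofCard ..
  set NX := normalizer (Pm : Set X) with hNX
  set CX := centralizer (Pm : Set X) with hCX
  have hreg : (ClassCover.regSet (G := X) p).ncard ≤ NX.index * Nat.card CX := by
    have := ClassCover.ncard_regSet_le p PX
    rwa [hPX] at this
  have hNcard : Nat.card NX = S.index * (kk (P : Subgroup S) * Nat.card P) := by
    have hsup : S ⊔ NX = ⊤ := by rw [sup_comm]; exact Sylow.normalizer_sup_eq_top P
    have h := card_sup_inf S NX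
    rw [hsup, card_top, inf_comm, hNX, normalizer_map_inf,
      card_map_of_injective S.subtype_injective, H.card_normalizer hd P, ← S.card_mul_index,
      mul_assoc] at h
    exact (Nat.eq_of_mul_eq_mul_left Nat.card_pos h).symm
  have hX : Nat.card X = Nat.card NX * NX.index := (card_mul_index NX).symm
  refine ⟨?_, fun hle => ?_⟩
  · have hinf : S ⊓ CX ≤ Pm := by
      rintro a ⟨haS, ha⟩
      refine ⟨⟨a, haS⟩, ?_, rfl⟩
      rw [← H.centralizer_sylow hd P]
      exact mem_centralizer_iff.2 fun b hb => Subtype.ext (mem_centralizer_iff.1 ha b ⟨b, hb, rfl⟩)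
    have hC : Nat.card CX ≤ S.index * Nat.card P := by
      have h := card_sup_inf S CX
      have h1 : Nat.card (S ⊔ CX : Subgroup X) ≤ Nat.card S * S.index := by
        rw [S.card_mul_index]
        exact Nat.le_of_dvd Nat.card_pos (card_subgroup_dvd_card _)
      have h2 : Nat.card (S ⊓ CX : Subgroup X) ≤ Nat.card P :=
        hPmc ▸ Nat.le_of_dvd Nat.card_pos (card_dvd_of_le hinf)
      have h3 : Nat.card S * Nat.card CX ≤ Nat.card S * (S.index * Nat.card P) := by
        rw [← h, ← mul_assoc]
        exact Nat.mul_le_mul h1 h2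
      exact Nat.le_of_mul_le_mul_left h3 Nat.card_pos
    rw [hX, hNcard]
    calc _ ≤ NX.index * (S.index * Nat.card P) * kk (P : Subgroup S) :=
          Nat.mul_le_mul_right _ (hreg.trans (Nat.mul_le_mul_left _ hC))
      _ = _ := by ring
  · have hC : Nat.card CX ≤ Nat.card P := hPmc ▸ Nat.le_of_dvd Nat.card_pos (card_dvd_of_le hle)
    rw [hX, hNcard]
    calc _ ≤ NX.index * Nat.card P * (kk (P : Subgroup S) * S.index) :=
          Nat.mul_le_mul_right _ (hreg.trans (Nat.mul_le_mul_left _ hC))
      _ = _ := by ring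

omit [S.Normal] in
theorem sum_ge (hX : Two X) {p : ℕ} (hp : p.Prime) (hp2 : p ≠ 2) (hp3 : p ≠ 3) :
    Nat.card X + 2 ≤ (ClassCover.regSet (G := X) 2).ncard +
      (ClassCover.regSet (G := X) 3).ncard + (ClassCover.regSet (G := X) p).ncard := by
  classical
  have h1 : ∀ l : ℕ, l.Prime → (1 : X) ∈ ClassCover.regSet (G := X) l := by
    intro l hl
    show ¬ l ∣ (cent (1 : X)).index
    rw [index_cent_eq_one_iff.2 (one_mem _)]
    exact fun h => hl.one_lt.ne' (Nat.eq_one_of_dvd_one h)
  set A := ClassCover.regSet (G := X) 2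
  set B := ClassCover.regSet (G := X) 3
  set C := ClassCover.regSet (G := X) p
  have hcov : (Set.univ : Set X) ⊆ insert 1 ((A \ {1}) ∪ (B \ {1}) ∪ (C \ {1})) := by
    intro x _
    by_cases hx : x = 1
    · exact Or.inl hx
    refine Or.inr ?_
    by_contra hcon
    simp only [Set.mem_union, Set.mem_sdiff, Set.mem_singleton_iff, hx, not_false_iff, and_true,
      not_or, A, B, C, ClassCover.regSet, Set.mem_setOf_eq, not_not] at hcon
    exact hX.false_of_three x Nat.prime_two Nat.prime_three hp (by norm_num) hp2.symm hp3.symm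
      hcon.1.1 hcon.1.2 hcon.2
  have h := (Set.ncard_le_ncard hcov (Set.toFinite _)).trans (Set.ncard_insert_le _ _)
  rw [Set.ncard_univ] at h
  have h2 := (Set.ncard_union_le ((A \ {1}) ∪ (B \ {1})) (C \ {1})).trans
    (Nat.add_le_add_right (Set.ncard_union_le (A \ {1}) (B \ {1})) _)
  have eA : (A \ {1}).ncard + 1 = A.ncard :=
    Set.ncard_sdiff_singleton_add_one (h1 2 Nat.prime_two) (Set.toFinite _)
  have eB : (B \ {1}).ncard + 1 = B.ncard :=
    Set.ncard_sdiff_singleton_add_one (h1 3 Nat.prime_three) (Set.toFinite _)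
  have eC : (C \ {1}).ncard + 1 = C.ncard :=
    Set.ncard_sdiff_singleton_add_one (h1 p hp) (Set.toFinite _)
  omega

theorem index_dvd (H : Hyp S) (hC : centralizer (S : Set X) = ⊥) {f : ℕ} (hf : f = 2 ∨ f = 3)
    (hcard : Nat.card S = 2 ^ f * ((2 ^ f - 1) * (2 ^ f + 1)))
    (e : S ≃* Matrix.ProjectiveSpecialLinearGroup (Fin 2) (GaloisField 2 f)) : S.index ∣ f := by
  classical
  haveI : Fact (Nat.Prime 2) := ⟨Nat.prime_two⟩
  letI : Fintype (GaloisField 2 f) := Fintype.ofFinite _
  have hf0 : f ≠ 0 := by omega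
  have hF : Fintype.card (GaloisField 2 f) = 2 ^ f := by
    rw [← Nat.card_eq_fintype_card, GaloisField.card 2 f hf0]
  have h4 : 4 ≤ 2 ^ f := by rcases hf with rfl | rfl <;> norm_num
  have hA := S0813.result (F := GaloisField 2 f) 2 f (by omega) hF 2 le_rfl (fun _ => h4)
  have hg : Nat.gcd 2 (2 ^ f - 1) = 1 := by rcases hf with rfl | rfl <;> norm_num
  have hpgl : Nat.card (Matrix.ProjGenLinGroup (Fin 2) (GaloisField 2 f)) = Nat.card S := by
    have h1 := ClassicalSL.card_psl_mul (ι := Fin 2) (F := GaloisField 2 f)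
    have h2 := ClassicalSL.card_sl_mul (ι := Fin 2) (F := GaloisField 2 f)
    rw [Fintype.card_fin, Nat.card_eq_fintype_card (α := GaloisField 2 f), hF, hg, one_mul] at h1
    rw [Nat.card_eq_fintype_card (α := GaloisField 2 f), hF] at h2
    rw [ClassicalSL.card_pgl, Nat.card_congr e.toEquiv]
    exact Nat.eq_of_mul_eq_mul_left (by omega) (h2.trans h1.symm)
  have hinj : Function.Injective (MulAut.conjNormal : X →* MulAut S) :=
    GW.conjNormal_injective hC
  have hdvd : Nat.card X ∣ Nat.card (MulAut S) := card_dvd_of_injective _ hinj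
  rw [Nat.card_congr (MulAut.congr e).toEquiv, hA, if_pos rfl, one_mul, hpgl,
    ← S.card_mul_index, mul_comm f] at hdvd
  exact Nat.dvd_of_mul_dvd_mul_left Nat.card_pos hdvd

theorem eq_top_of_almost_simple (H : Hyp S) (hC : centralizer (S : Set X) = ⊥) (hX : Two X) :
    S = ⊤ := by
  classical
  haveI : Fact (Nat.Prime 2) := ⟨Nat.prime_two⟩
  haveI : Fact (Nat.Prime 3) := ⟨Nat.prime_three⟩
  obtain ⟨f, hf, hcard, ⟨e⟩⟩ := H.classify
  have hfp : f.Prime := by rcases hf with rfl | rfl; exacts [Nat.prime_two, Nat.prime_three]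
  rcases (Nat.dvd_prime hfp).1 (index_dvd H hC hf hcard e) with hi | hi
  · exact index_eq_one.1 hi
  exfalso
  have hXc : Nat.card X = Nat.card S * f := by rw [← S.card_mul_index, hi]
  have hd2 : 2 ∣ Nat.card S := by rw [hcard]; exact (dvd_pow_self 2 (by omega)).mul_right _
  obtain ⟨T⟩ : Nonempty (Sylow 2 S) := inferInstance
  obtain ⟨hT, hn, hk⟩ := H.sylow_two_count hf hcard T
  have hTN : Nat.card (normalizer ((T : Subgroup S) : Set S)) = (2 ^ f - 1) * 2 ^ f := by
    rw [H.card_normalizer hd2 T, hk, hT]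
  haveI := H.all_comm 2 T
  have hTne : (T : Subgroup S) ≠ ⊥ := fun h => by
    obtain ⟨x, hx, hx1⟩ := sylow_exists_ne_one hd2 T
    rw [h, mem_bot] at hx
    exact hx1 hx
  -- the centralizer of a Sylow subgroup regular on the Sylow `2`-subgroups
  have hreg : ∀ {l : ℕ} [Fact l.Prime] (P : Sylow l S), Nat.card P = 2 ^ f + 1 →
      (2 ^ f + 1).Coprime ((2 ^ f - 1) * 2 ^ f) →
      centralizer (((P : Subgroup S).map S.subtype : Subgroup X) : Set X) ≤
        (P : Subgroup S).map S.subtype := by
    intro l _ P hP hco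
    haveI := H.all_comm l P
    refine centralizer_eq_of_action H hC hd2 (P : Subgroup S) ∅ (by simp) (by simp) ?_ ?_
      (by rw [hP, hn, Finset.card_empty, add_zero])
    · intro R _ u hu huR
      rw [Sylow.smul_eq_iff_mem_normalizer] at huR
      obtain ⟨_, hR, hkR⟩ := H.sylow_two_count hf hcard R
      have d1 : orderOf u ∣ 2 ^ f + 1 :=
        hP ▸ (Subgroup.orderOf_mk u hu ▸ orderOf_dvd_natCard (⟨u, hu⟩ : (P : Subgroup S)))
      have d2 : orderOf u ∣ (2 ^ f - 1) * 2 ^ f := by
        have h := Subgroup.orderOf_mk u huR ▸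
          orderOf_dvd_natCard (⟨u, huR⟩ : normalizer ((R : Subgroup S) : Set S))
        rwa [H.card_normalizer hd2 R, hkR, (H.sylow_two_count hf hcard R).1] at h
      exact orderOf_eq_one_iff.1 (Nat.eq_one_of_dvd_coprimes hco d1 d2)
    · intro h
      rw [h, card_bot] at hP
      have := Nat.one_le_pow f 2 (by norm_num)
      omega
  rcases hf with rfl | rfl
  · -- the order is 120
    haveI : Fact (Nat.Prime 5) := ⟨by norm_num⟩
    norm_num at hcard hT hn hk
    rw [hcard] at hXc
    norm_num at hXc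
    have hsum := sum_ge hX (p := 5) (by norm_num) (by norm_num) (by norm_num)
    obtain ⟨P5⟩ : Nonempty (Sylow 5 S) := inferInstance
    obtain ⟨P3⟩ : Nonempty (Sylow 3 S) := inferInstance
    have hP5 : Nat.card P5 = 5 := by
      rw [P5.card_eq_multiplicity, hcard, show (60 : ℕ) = 5 ^ 1 * 12 by norm_num,
        Nat.factorization_mul (by norm_num) (by norm_num), Finsupp.add_apply,
        (by norm_num : Nat.Prime 5).factorization_pow, Finsupp.single_eq_same,
        Nat.factorization_eq_zero_of_not_dvd (n := 12) (by norm_num)]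
      norm_num
    have hk5 := H.two_le_kk (p := 5) (by rw [hcard]; norm_num) P5
    have hk3 := H.two_le_kk (p := 3) (by rw [hcard]; norm_num) P3
    have h5 := (reg_mul_le H (p := 5) (by rw [hcard]; norm_num) (by rw [hi]; norm_num) P5).2
      (hreg P5 (by rw [hP5]; norm_num) (by norm_num))
    have h3 := (reg_mul_le H (p := 3) (by rw [hcard]; norm_num) (by rw [hi]; norm_num) P3).1
    obtain ⟨TX, hTX⟩ := (T.isPGroup'.map S.subtype).exists_le_sylow
    have hTXc : Nat.card TX = 8 := by
      rw [TX.card_eq_multiplicity, hXc, show (120 : ℕ) = 2 ^ 3 * 15 by norm_num,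
        Nat.factorization_mul (by norm_num) (by norm_num), Finsupp.add_apply,
        Nat.prime_two.factorization_pow, Finsupp.single_eq_same,
        Nat.factorization_eq_zero_of_not_dvd (n := 15) (by norm_num)]
      norm_num
    have hnc : ¬ IsMulCommutative (TX : Subgroup X) := by
      intro hc
      have hle : (TX : Subgroup X) ≤ (T : Subgroup S).map S.subtype := by
        refine le_trans ?_ (centralizer_eq_of_action H hC hd2 (T : Subgroup S) {T} (by simp)
          ?_ ?_ hTne ?_)
        · exact (le_centralizer (TX : Subgroup X)).trans (centralizer_le hTX)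
        · intro R hR u hu
          rw [Finset.mem_singleton] at hR
          subst hR
          exact Sylow.smul_eq_iff_mem_normalizer.2 (le_normalizer hu)
        · intro R hR u hu huR
          by_contra h1
          rw [Finset.mem_singleton] at hR
          exact hR (H.eq_of_normalizes T R hu h1 (Sylow.smul_eq_iff_mem_normalizer.1 huR))
        · rw [hT, hn, Finset.card_singleton]
      have h := Nat.le_of_dvd Nat.card_pos (card_dvd_of_le hle)
      rw [hTXc, card_map_of_injective S.subtype_injective, hT] at h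
      omega
    have h2 : (ClassCover.regSet (G := X) 2).ncard * kk (TX : Subgroup X) ≤ Nat.card X :=
      ncard_reg_mul_le TX
    have hk4 : 4 ≤ kk (TX : Subgroup X) := by
      have h : 2 ^ 2 ∣ kk (TX : Subgroup X) := sq_dvd_relIndex_of_not_comm TX hnc
      exact Nat.le_of_dvd (Nat.pos_of_ne_zero index_ne_zero_of_finite) h
    rw [hXc] at hsum h2 h3 h5
    rw [hi] at h5
    generalize (ClassCover.regSet (G := X) 2).ncard = a at *
    generalize (ClassCover.regSet (G := X) 3).ncard = b at *
    generalize (ClassCover.regSet (G := X) 5).ncard = c at *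
    nlinarith
  · -- the order is 1512
    haveI : Fact (Nat.Prime 7) := ⟨by norm_num⟩
    norm_num at hcard hT hn hk
    rw [hcard] at hXc
    norm_num at hXc
    have hsum := sum_ge hX (p := 7) (by norm_num) (by norm_num) (by norm_num)
    obtain ⟨P7⟩ : Nonempty (Sylow 7 S) := inferInstance
    obtain ⟨P0⟩ : Nonempty (Sylow 3 S) := inferInstance
    have hk7 := H.two_le_kk (p := 7) (by rw [hcard]; norm_num) P7
    have h7 := (reg_mul_le H (p := 7) (by rw [hcard]; norm_num) (by rw [hi]; norm_num) P7).1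
    have h2 := (reg_mul_le H (p := 2) hd2 (by rw [hi]; norm_num) T).1
    have hP0 : Nat.card P0 = 9 := by
      rw [P0.card_eq_multiplicity, hcard, show (504 : ℕ) = 3 ^ 2 * 56 by norm_num,
        Nat.factorization_mul (by norm_num) (by norm_num), Finsupp.add_apply,
        Nat.prime_three.factorization_pow, Finsupp.single_eq_same,
        Nat.factorization_eq_zero_of_not_dvd (n := 56) (by norm_num)]
      norm_num
    obtain ⟨PX, hPX⟩ := (P0.isPGroup'.map S.subtype).exists_le_sylow
    have hPXc : Nat.card PX = 27 := by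
      rw [PX.card_eq_multiplicity, hXc, show (1512 : ℕ) = 3 ^ 3 * 56 by norm_num,
        Nat.factorization_mul (by norm_num) (by norm_num), Finsupp.add_apply,
        Nat.prime_three.factorization_pow, Finsupp.single_eq_same,
        Nat.factorization_eq_zero_of_not_dvd (n := 56) (by norm_num)]
      norm_num
    have hC3 : Nat.card (centralizer ((PX : Subgroup X) : Set X)) ≤ 9 := by
      rw [← hP0, ← card_map_of_injective S.subtype_injective]
      exact Nat.le_of_dvd Nat.card_pos (card_dvd_of_le ((centralizer_le hPX).trans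
        (hreg P0 (by rw [hP0]; norm_num) (by norm_num))))
    have hN3 : 27 ≤ Nat.card (normalizer ((PX : Subgroup X) : Set X)) :=
      hPXc ▸ Nat.le_of_dvd Nat.card_pos (card_dvd_of_le le_normalizer)
    have h3 := ClassCover.ncard_regSet_le 3 PX
    have hmul := card_mul_index (normalizer ((PX : Subgroup X) : Set X))
    rw [hXc] at hsum h2 h7 hmul
    rw [hk] at h2
    generalize (normalizer ((PX : Subgroup X) : Set X)).index = n at *
    generalize Nat.card (normalizer ((PX : Subgroup X) : Set X)) = N at *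
    generalize Nat.card (centralizer ((PX : Subgroup X) : Set X)) = C' at *
    generalize (ClassCover.regSet (G := X) 2).ncard = a at *
    generalize (ClassCover.regSet (G := X) 3).ncard = b at *
    generalize (ClassCover.regSet (G := X) 7).ncard = c at *
    have : n ≤ 56 := by nlinarith
    nlinarith

end Cfsg.Agent.TwoPrimes
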