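import Cfsg.Agent.Lib.ThreeSizes.Basic
import Cfsg.Agent.Lib.OddDown.ClassSizeSol
import Mathlib

/-!
Class sizes with at most two prime divisors: generalities on types of elements.
-/

set_option autoImplicit false
set_option linter.style.haveILetI false
set_option linter.unusedSectionVars false

namespace Cfsg.Agent.TwoPrimes

open Subgroup ThreeSizes

variable {G : Type*} [Group G]

/-- Every class size has at most two prime divisors. -/
def Two (G : Type*) [Group G] : Prop :=
  ∀ x : G, ((cent x).index).primeFactors.card ≤ 2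

/-- The class size of `x` is prime to `p`. -/
def Typ (p : ℕ) (x : G) : Prop := ¬ p ∣ (cent x).index

theorem Two.false_of_three (h : Two G) [Finite G] (x : G) {a b c : ℕ} (ha : a.Prime) (hb : b.Prime)
    (hc : c.Prime) (hab : a ≠ b) (hac : a ≠ c) (hbc : b ≠ c) (da : a ∣ (cent x).index)
    (db : b ∣ (cent x).index) (dc : c ∣ (cent x).index) : False := by
  have hsub : ({a, b, c} : Finset ℕ) ⊆ ((cent x).index).primeFactors := by
    intro l hl
    simp only [Finset.mem_insert, Finset.mem_singleton] at hl
    rw [Nat.mem_primeFactors]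
    rcases hl with rfl | rfl | rfl
    · exact ⟨ha, da, index_ne_zero_of_finite⟩
    · exact ⟨hb, db, index_ne_zero_of_finite⟩
    · exact ⟨hc, dc, index_ne_zero_of_finite⟩
  have h1 := (Finset.card_le_card hsub).trans (h x)
  rw [Finset.card_insert_of_notMem (by simp [hab, hac]),
    Finset.card_insert_of_notMem (by simp [hbc]), Finset.card_singleton] at h1
  omega

variable [Finite G]

theorem Two.normal (h : Two G) (N : Subgroup G) [N.Normal] : Two N := fun x =>
  (Finset.card_le_card (Nat.primeFactors_mono (OddDown.index_cent_dvd_normal N x)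
    index_ne_zero_of_finite)).trans (h (x : G))

theorem Two.quot (h : Two G) (N : Subgroup G) [N.Normal] : Two (G ⧸ N) := fun x => by
  obtain ⟨y, rfl⟩ := QuotientGroup.mk_surjective x
  exact (Finset.card_le_card (Nat.primeFactors_mono (OddDown.index_cent_dvd_quot N y)
    index_ne_zero_of_finite)).trans (h y)

theorem cent_conj (x g : G) : cent (g * x * g⁻¹) = (cent x).map (MulAut.conj g).toMonoidHom := by
  ext a
  rw [Subgroup.mem_map_equiv, mem_cent, mem_cent, MulAut.conj_symm_apply]
  constructor
  · intro h
    calc g⁻¹ * a * g * x = g⁻¹ * (a * (g * x * g⁻¹)) * g := by group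
      _ = g⁻¹ * (g * x * g⁻¹ * a) * g := by rw [h]
      _ = x * (g⁻¹ * a * g) := by group
  · intro h
    calc a * (g * x * g⁻¹) = g * (g⁻¹ * a * g * x) * g⁻¹ := by group
      _ = g * (x * (g⁻¹ * a * g)) * g⁻¹ := by rw [h]
      _ = g * x * g⁻¹ * a := by group

theorem index_cent_conj (x g : G) : (cent (g * x * g⁻¹)).index = (cent x).index := by
  rw [cent_conj]
  exact index_map_equiv _ (MulAut.conj g)

theorem Typ.conj {p : ℕ} {x : G} (h : Typ p x) (g : G) : Typ p (g * x * g⁻¹) := by
  rwa [Typ, index_cent_conj]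

theorem typ_conj_iff {p : ℕ} {x : G} (g : G) : Typ p (g * x * g⁻¹) ↔ Typ p x := by
  rw [Typ, index_cent_conj, Typ]

theorem Typ.pow {p : ℕ} {x : G} (h : Typ p x) (n : ℕ) : Typ p (x ^ n) := fun hd =>
  h (hd.trans (index_dvd_of_le (cent_le_cent_pow x n)))

theorem typ_of_le {p : ℕ} [Fact p.Prime] {x : G} (P : Sylow p G) (h : (P : Subgroup G) ≤ cent x) :
    Typ p x := fun hd => P.not_dvd_index (hd.trans (index_dvd_of_le h))

theorem typ_of_mem_centralizer {p : ℕ} [Fact p.Prime] {x : G} (P : Sylow p G)
    (h : x ∈ centralizer ((P : Subgroup G) : Set G)) : Typ p x :=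
  typ_of_le P fun y hy => mem_cent.2 (mem_centralizer_iff.1 h y hy)

theorem typ_of_mem {p : ℕ} [Fact p.Prime] {x : G} (P : Sylow p G)
    [hP : IsMulCommutative (P : Subgroup G)] (h : x ∈ (P : Subgroup G)) : Typ p x :=
  typ_of_mem_centralizer P (le_centralizer _ h)

theorem Typ.exists_sylow {p : ℕ} [Fact p.Prime] {x : G} (h : Typ p x) :
    ∃ P : Sylow p G, x ∈ centralizer ((P : Subgroup G) : Set G) :=
  ClassCover.exists_sylow_of_mem p h

theorem Typ.exists_sylow_le {p : ℕ} [Fact p.Prime] {x : G} (h : Typ p x) :
    ∃ P : Sylow p G, (P : Subgroup G) ≤ cent x := by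
  obtain ⟨P, hP⟩ := h.exists_sylow
  exact ⟨P, fun y hy => mem_cent.2 (mem_centralizer_iff.1 hP y hy)⟩

/-- Commutativity passes between Sylow subgroups. -/
theorem sylow_comm_of {p : ℕ} [Fact p.Prime] (P Q : Sylow p G)
    (hP : IsMulCommutative (P : Subgroup G)) : IsMulCommutative (Q : Subgroup G) := by
  have e := Sylow.equiv P Q
  refine ⟨⟨fun a b => ?_⟩⟩
  obtain ⟨a', rfl⟩ := e.surjective a
  obtain ⟨b', rfl⟩ := e.surjective b
  rw [← map_mul, ← map_mul, hP.is_comm.comm]

theorem centralizer_le_normalizer' (H : Subgroup G) :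
    centralizer (H : Set G) ≤ normalizer (H : Set G) := by
  intro x hx
  rw [mem_normalizer_iff]
  intro y
  constructor
  · intro hy
    have := mem_centralizer_iff.1 hx y hy
    simpa [← this, mul_assoc] using hy
  · intro hy
    have h1 := mem_centralizer_iff.1 hx _ hy
    have h2 : x * y = x * (x * y * x⁻¹) := by
      rw [← h1]; group
    rw [mul_left_cancel h2]
    exact hy

/-- `|N(P) : C(P)|` times the number of elements of type `p` is at most `|G|`. -/
theorem ncard_reg_mul_le {p : ℕ} [Fact p.Prime] (P : Sylow p G) :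
    (ClassCover.regSet (G := G) p).ncard *
      (centralizer ((P : Subgroup G) : Set G)).relIndex (normalizer ((P : Subgroup G) : Set G)) ≤
      Nat.card G := by
  refine (Nat.mul_le_mul_right _ (ClassCover.ncard_regSet_le p P)).trans (le_of_eq ?_)
  set C := centralizer ((P : Subgroup G) : Set G)
  set N := normalizer ((P : Subgroup G) : Set G)
  rw [← relIndex_bot_left, ← Subgroup.card_mul_index N, ← relIndex_bot_left,
    ← relIndex_mul_relIndex ⊥ C N bot_le (centralizer_le_normalizer' _)]
  ring

theorem two_le_relIndex {p : ℕ} [Fact p.Prime] (hnc : ¬ Cfsg.HasNormalPComplement p G)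
    (P : Sylow p G) : 2 ≤ (centralizer ((P : Subgroup G) : Set G)).relIndex
      (normalizer ((P : Subgroup G) : Set G)) := by
  set C := centralizer ((P : Subgroup G) : Set G) with hC
  set N := normalizer ((P : Subgroup G) : Set G) with hN
  by_contra hlt
  have h0 : C.relIndex N ≠ 0 := index_ne_zero_of_finite (H := C.subgroupOf N)
  have hle : N ≤ C := relIndex_eq_one.1 (by omega)
  exact hnc ⟨P, (MonoidHom.transferSylow P hle).ker, inferInstance,
    MonoidHom.ker_transferSylow_isComplement' P hle⟩

theorem not_dvd_relIndex_of_comm {p : ℕ} [Fact p.Prime] (P : Sylow p G)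
    [hP : IsMulCommutative (P : Subgroup G)] :
    ¬ p ∣ (centralizer ((P : Subgroup G) : Set G)).relIndex
      (normalizer ((P : Subgroup G) : Set G)) := by
  intro hd
  set C := centralizer ((P : Subgroup G) : Set G) with hC
  set N := normalizer ((P : Subgroup G) : Set G) with hN
  have hPC : (P : Subgroup G) ≤ C := le_centralizer _
  have hCN : C ≤ N := centralizer_le_normalizer' _
  refine P.not_dvd_index ?_
  rw [← relIndex_mul_index (hPC.trans hCN), ← relIndex_mul_relIndex _ C N hPC hCN]
  exact (hd.trans (dvd_mul_left _ _)).trans (dvd_mul_right _ _)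

theorem relIndex_dvd_relIndex_normalizer (P : Subgroup G) :
    (centralizer (P : Set G)).relIndex P ∣
      (centralizer (P : Set G)).relIndex (normalizer (P : Set G)) := by
  set C := centralizer (P : Set G) with hC
  set N := normalizer (P : Set G) with hN
  haveI : (C.subgroupOf N).Normal := ⟨fun a ha g => by
    rw [mem_subgroupOf] at ha ⊢
    rw [hC, mem_centralizer_iff] at ha ⊢
    intro y hy
    have hy' : (g : G)⁻¹ * y * g ∈ (P : Set G) := by
      have := (mem_normalizer_iff.1 (inv_mem g.2) y).1 hy
      simpa using this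
    have := ha _ hy'
    simp only [Subgroup.coe_mul, Subgroup.coe_inv]
    calc y * ((g : G) * a * (g : G)⁻¹) = g * ((g : G)⁻¹ * y * g * a) * (g : G)⁻¹ := by group
      _ = g * (a * ((g : G)⁻¹ * y * g)) * (g : G)⁻¹ := by rw [this]
      _ = g * a * (g : G)⁻¹ * y := by group⟩
  have h := relIndex_dvd_index_of_normal (C.subgroupOf N) (P.subgroupOf N)
  rwa [relIndex_subgroupOf (le_normalizer : P ≤ N)] at h

theorem sq_dvd_relIndex_of_not_comm {p : ℕ} [hp : Fact p.Prime] (P : Sylow p G)
    (hnc : ¬ IsMulCommutative (P : Subgroup G)) :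
    p ^ 2 ∣ (centralizer ((P : Subgroup G) : Set G)).relIndex
      (normalizer ((P : Subgroup G) : Set G)) := by
  refine dvd_trans ?_ (relIndex_dvd_relIndex_normalizer _)
  have hZ : (centralizer ((P : Subgroup G) : Set G)).subgroupOf (P : Subgroup G) =
      center (P : Subgroup G) := by
    ext a
    rw [mem_subgroupOf, mem_centralizer_iff, mem_center_iff]
    constructor
    · intro h b
      exact Subtype.ext (h b b.2)
    · intro h b hb
      exact congrArg Subtype.val (h ⟨b, hb⟩)
  rw [relIndex, hZ]
  obtain ⟨n, hn⟩ := P.isPGroup'.index (center (P : Subgroup G))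
  rw [hn]
  refine pow_dvd_pow p ?_
  by_contra hlt
  apply hnc
  haveI : IsCyclic ((P : Subgroup G) ⧸ center (P : Subgroup G)) := by
    rcases (show n = 0 ∨ n = 1 by omega) with rfl | rfl
    · haveI : Subsingleton ((P : Subgroup G) ⧸ center (P : Subgroup G)) := by
        rw [← not_nontrivial_iff_subsingleton, ← Finite.one_lt_card_iff_nontrivial]
        rw [show Nat.card ((P : Subgroup G) ⧸ center (P : Subgroup G)) = 1 by
          rw [← index_eq_card, hn, pow_zero]]
        omega
      infer_instance
    · exact isCyclic_of_prime_card (p := p) (by rw [← index_eq_card, hn, pow_one])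
  exact MonoidHom.isMulCommutative_of_isCyclic_of_ker_le_center
    (QuotientGroup.mk' (center (P : Subgroup G)))
    (QuotientGroup.ker_mk' (center (P : Subgroup G))).le

end Cfsg.Agent.TwoPrimes
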