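import Cfsg.Agent.Lib.TwoPrimes.Fibre
import Cfsg.Agent.Lib.TwoGroups.CentFour
import Cfsg.Agent.S0111
import Cfsg.Agent.S4355

/-!
The Sylow `2`-subgroup of the simple group is abelian.
-/

set_option autoImplicit false
set_option linter.style.haveILetI false
set_option linter.unusedSectionVars false

namespace Cfsg.Agent.TwoPrimes

open Subgroup ThreeSizes

universe u

variable {G : Type u} [Group G] [Finite G] {q r : ℕ} [Fact q.Prime] [Fact r.Prime] {Q : Sylow q G}
  {D : Subgroup G} {s : G}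

theorem involution_unique {a x y : G} (hx : x ∈ zpowers a) (hy : y ∈ zpowers a)
    (hx2 : orderOf x = 2) (hy2 : orderOf y = 2) : x = y := by
  classical
  haveI := Fintype.ofFinite (zpowers a)
  have h : ((Finset.univ : Finset (zpowers a)).filter fun b => orderOf b = 2).card ≤ 1 := by
    rcases em (2 ∣ Fintype.card (zpowers a)) with hd | hd
    · rw [IsCyclic.card_orderOf_eq_totient hd]
      exact le_of_eq (by decide)
    · rw [Finset.filter_false_of_mem, Finset.card_empty]
      · exact Nat.zero_le _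
      · exact fun b _ hb => hd (hb ▸ orderOf_dvd_card)
  exact congrArg Subtype.val (Finset.card_le_one.1 h ⟨x, hx⟩ (by simp [Subgroup.orderOf_mk, hx2])
    ⟨y, hy⟩ (by simp [Subgroup.orderOf_mk, hy2]))

/-- A nontrivial normal subgroup of a `2`-group has an involution in the centre. -/
theorem exists_central_invol {U K : Subgroup G} (hU : IsPGroup 2 U) (hKU : K ≤ U)
    (hn : U ≤ normalizer (K : Set G)) (hK : K ≠ ⊥) :
    ∃ e ∈ K, orderOf e = 2 ∧ ∀ x ∈ U, Commute e x := by
  haveI : Fact (Nat.Prime 2) := ⟨Nat.prime_two⟩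
  haveI := hU.isNilpotent
  haveI : (K.subgroupOf U).Normal := normal_subgroupOf_iff_le_normalizer hKU |>.2 hn
  have hne : K.subgroupOf U ≠ ⊥ := by
    rw [Ne, subgroupOf_eq_bot, disjoint_iff, inf_eq_left.2 hKU]
    exact hK
  obtain ⟨w, hw, hw1⟩ := (Subgroup.bot_or_exists_ne_one _).resolve_left
    (SolvStruct.inf_center_ne_bot (G := U) hne)
  have hwne : (w : G) ≠ 1 := fun h => hw1 (Subtype.ext h)
  obtain ⟨n, hn2⟩ := exists_pow_orderOf Nat.prime_two (PEl.of_isPGroup hU w.2) hwne
  refine ⟨(w : G) ^ n, pow_mem (mem_subgroupOf.1 (mem_inf.1 hw).1) n, hn2, fun x hx => ?_⟩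
  exact (show Commute (w : G) x from
    (congrArg Subtype.val (mem_center_iff.1 (mem_inf.1 hw).2 ⟨x, hx⟩)).symm).pow_left n

namespace LS

variable (L : LS G q r Q D s)

include L

theorem sup_isPGroup : IsPGroup 2 (D ⊔ zpowers s : Subgroup G) :=
  haveI : Fact (Nat.Prime 2) := ⟨Nat.prime_two⟩
  IsPGroup.to_sup_of_normal_left' L.D_isPGroup (pel_zpowers L.s_pel)
    (zpowers_le.2 (L.normalizer_le_normalizer_D L.s_mem))

theorem exists_lh {e : G} (he : e ∈ D) (ho : orderOf e = 2) (hs : Commute e s)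
    (hD : ∀ d ∈ D, Commute e d) : ∃ T, LH G q r Q D s e T := by
  classical
  haveI : Fact (Nat.Prime 2) := ⟨Nat.prime_two⟩
  set H := cent e with hH
  have hle : D ⊔ zpowers s ≤ H :=
    sup_le (fun d hd => mem_cent.2 (hD d hd).eq.symm) (zpowers_le.2 (mem_cent.2 hs.eq.symm))
  obtain ⟨U0, hU0⟩ := (L.sup_isPGroup.comap_subtype (H := D ⊔ zpowers s) (K := H)).exists_le_sylow
  obtain ⟨T, hT⟩ := (U0.isPGroup'.map H.subtype).exists_le_sylow
  have hsub : D ⊔ zpowers s ≤ (T : Subgroup G) := fun x hx =>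
    hT ⟨⟨x, hle hx⟩, hU0 (mem_subgroupOf.2 hx), rfl⟩
  refine ⟨T, L, ho, he, hs, hD, fun K hK hKe hTK => le_antisymm (fun x hx => ?_) hTK,
    le_sup_left.trans hsub, hsub (mem_sup_right (mem_zpowers s))⟩
  have h1 : (U0 : Subgroup H) ≤ K.subgroupOf H := fun y hy =>
    mem_subgroupOf.2 (hTK ⟨hT ⟨y, hy, rfl⟩, y.2⟩)
  have h2 := U0.is_maximal' (IsPGroup.comap_subtype (H := K) (K := H) hK) h1
  refine mem_inf.2 ⟨hT ⟨⟨x, hKe hx⟩, ?_, rfl⟩, hKe hx⟩
  rw [← h2]
  exact mem_subgroupOf.2 hx

/-- The centralizer of every such involution is `N(Q)`. -/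
theorem cent_eq {e : G} {T : Sylow 2 G} (M : LH G q r Q D s e T) :
    cent e = normalizer ((Q : Subgroup G) : Set G) := by
  haveI : Fact (Nat.Prime 2) := ⟨Nat.prime_two⟩
  by_cases h : ∃ z ∈ centralizer ((T : Subgroup G) : Set G), z ∉ core2 e
  · obtain ⟨z, hz, hzW⟩ := h
    exact M.outside hz hzW
  · push Not at h
    refine (M.not_inside ?_ h).elim
    have hZT := L.hyp.centralizer_sylow_le L.primes T
    rw [card_eq_card_mul_relIndex hZT, mul_comm]
    refine Nat.mul_le_mul_right _ (Nat.le_of_dvd ?_ (relIndex_dvd_relIndex_normalizer _))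
    exact Nat.pos_of_ne_zero index_ne_zero_of_finite

theorem false_of_not_comm (hnab : ∀ T : Sylow 2 G, ¬ IsMulCommutative (T : Subgroup G)) :
    False := by
  classical
  haveI : Fact (Nat.Prime 2) := ⟨Nat.prime_two⟩
  have HY := L.hyp
  have R := L.primes
  haveI := HY.simple
  set N := normalizer ((Q : Subgroup G) : Set G) with hN
  obtain ⟨e, heD, ho, hce⟩ := exists_central_invol L.sup_isPGroup le_sup_left
    (sup_le le_normalizer (zpowers_le.2 (L.normalizer_le_normalizer_D L.s_mem))) L.D_ne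
  have hes : Commute e s := hce s (mem_sup_right (mem_zpowers s))
  have heD' : ∀ d ∈ D, Commute e d := fun d hd => hce d (mem_sup_left hd)
  obtain ⟨T, M⟩ := L.exists_lh heD ho hes heD'
  have hceN := L.cent_eq M
  set U := (T : Subgroup G) ⊓ cent e with hU
  have hUD : ∀ x ∈ U, x ∈ D ∨ x * s⁻¹ ∈ D := by
    intro x hx
    rw [hU, mem_inf, hceN] at hx
    rcases L.memN x hx.2 with h | h
    · exact Or.inl ((L.memD x).2 ⟨h, PEl.of_isPGroup T.isPGroup' hx.1⟩)
    · exact Or.inr ((L.memD _).2 ⟨h,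
        PEl.of_isPGroup T.isPGroup' (mul_mem hx.1 (inv_mem M.s_mem_T))⟩)
  have hDU : D ≤ U := le_inf M.D_le_T M.D_le
  have hsU : s ∈ U := ⟨M.s_mem_T, M.s_mem_cent⟩
  have hUN : U ≤ normalizer (D : Set G) :=
    fun x hx => L.normalizer_le_normalizer_D (hceN.le (mem_inf.1 hx).2)
  have hUle : U ≤ (T : Subgroup G) := inf_le_left
  have hUT : U ≠ (T : Subgroup G) := fun h => M.e_not_central (mem_centralizer_iff.2 fun x hx =>
    mem_cent.1 ((inf_eq_left.1 h) hx))
  -- an element of the normalizer of `U` in `T`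
  obtain ⟨g, hgT, hgN, hgU⟩ : ∃ g ∈ (T : Subgroup G), g ∈ normalizer (U : Set G) ∧ g ∉ U := by
    haveI := T.isPGroup'.isNilpotent
    have hlt : U.subgroupOf (T : Subgroup G) < ⊤ := lt_top_iff_ne_top.2 fun h =>
      hUT (le_antisymm hUle (subgroupOf_eq_top.1 h))
    obtain ⟨g, hg, hg'⟩ :=
      SetLike.exists_of_lt (Group.normalizerCondition_of_isNilpotent _ hlt)
    refine ⟨g, g.2, mem_normalizer_iff.2 fun a => ?_, fun h => hg' (mem_subgroupOf.2 h)⟩
    constructor
    · intro ha
      have := (mem_normalizer_iff.1 hg ⟨a, hUle ha⟩).1 (mem_subgroupOf.2 ha)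
      simpa [mem_subgroupOf] using this
    · intro ha
      have haT : a ∈ (T : Subgroup G) := by
        have := mul_mem (mul_mem (inv_mem g.2) (hUle ha)) g.2
        simpa [mul_assoc] using this
      exact (mem_normalizer_iff.1 hg ⟨a, haT⟩).2 (mem_subgroupOf.2 (by simpa using ha))
  have hgnN : g ∉ N := fun h => hgU ⟨hgT, hceN.ge h⟩
  have hgconj : ∀ x ∈ U, g⁻¹ * x * g ∈ U := fun x hx => by
    have := (mem_normalizer_iff.1 (inv_mem hgN) x).1 hx
    rwa [inv_inv] at this
  set Dg := D.map (MulAut.conj g).toMonoidHom with hDg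
  have hmemDg : ∀ x, x ∈ Dg ↔ g⁻¹ * x * g ∈ D := by
    intro x
    rw [hDg, mem_map_equiv, MulAut.conj_symm_apply]
  have hint : D ⊓ Dg = ⊥ := by
    by_contra hne
    have hUDg : U ≤ normalizer (Dg : Set G) := by
      intro x hx
      refine mem_normalizer_iff.2 fun a => ?_
      rw [hmemDg, hmemDg, mem_normalizer_iff.1 (hUN (hgconj x hx)) (g⁻¹ * a * g)]
      rw [show g⁻¹ * x * g * (g⁻¹ * a * g) * (g⁻¹ * x * g)⁻¹ = g⁻¹ * (x * a * x⁻¹) * g by group]
    obtain ⟨e', he', ho', hce'⟩ := exists_central_invol (T.isPGroup'.to_le hUle)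
      (inf_le_left.trans hDU) (fun x hx => mem_normalizer_iff.2 fun a => by
        rw [mem_inf, mem_inf, mem_normalizer_iff.1 (hUN hx) a, mem_normalizer_iff.1 (hUDg hx) a])
      hne
    obtain ⟨T', M'⟩ := L.exists_lh (mem_inf.1 he').1 ho' (hce' s hsU) fun d hd => hce' d (hDU hd)
    have hc1 := L.cent_eq M'
    set e'' := g⁻¹ * e' * g with he''
    have he''D : e'' ∈ D := (hmemDg e').1 (mem_inf.1 he').2
    have hce'' : ∀ x ∈ U, Commute e'' x := by
      intro x hx
      have hx' : g * x * g⁻¹ ∈ U := (mem_normalizer_iff.1 hgN x).1 hx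
      have := (hce' _ hx').map (MulAut.conj g⁻¹).toMonoidHom
      simp only [MulEquiv.coe_toMonoidHom, MulAut.conj_apply, inv_inv] at this
      rwa [show g⁻¹ * (g * x * g⁻¹) * g = x by group] at this
    obtain ⟨T'', M''⟩ := L.exists_lh he''D
      (by rw [he'', ← ho']; simpa using (MulAut.conj g⁻¹).orderOf_eq e')
      (hce'' s hsU) fun d hd => hce'' d (hDU hd)
    have hc2 := L.cent_eq M''
    have hnorm : ∀ x, x ∈ N ↔ g⁻¹ * x * g ∈ N := by
      intro x
      rw [hN, ← hc1]
      conv_rhs => rw [hc1, ← hc2, he'', mem_cent]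
      rw [mem_cent]
      constructor
      · intro h
        calc g⁻¹ * x * g * (g⁻¹ * e' * g) = g⁻¹ * (x * e') * g := by group
          _ = g⁻¹ * (e' * x) * g := by rw [h]
          _ = _ := by group
      · intro h
        calc x * e' = g * (g⁻¹ * x * g * (g⁻¹ * e' * g)) * g⁻¹ := by group
          _ = g * (g⁻¹ * e' * g * (g⁻¹ * x * g)) * g⁻¹ := by rw [h]
          _ = _ := by group
    apply hgnN
    have hQc : ∀ a ∈ (Q : Subgroup G), g * a * g⁻¹ ∈ (Q : Subgroup G) := by
      intro a ha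
      set b := g * a * g⁻¹ with hb
      have hbN : b ∈ N := (hnorm b).2 (by
        rw [show g⁻¹ * b * g = a by rw [hb]; group]
        exact le_normalizer ha)
      have hbq : PEl q b := (PEl.of_isPGroup Q.isPGroup' ha).conj g
      have hbp : IsPGroup q (zpowers b) := pel_zpowers hbq
      have h := Q.is_maximal' (IsPGroup.to_sup_of_normal_left' Q.isPGroup' hbp
        (zpowers_le.2 hbN)) le_sup_left
      exact h.le (mem_sup_right (mem_zpowers b))
    refine mem_normalizer_iff.2 fun a => ⟨hQc a, fun h => ?_⟩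
    have hmap : (Q : Subgroup G).map (MulAut.conj g).toMonoidHom = (Q : Subgroup G) :=
      eq_of_le_of_card_ge (by rintro _ ⟨b, hb, rfl⟩; exact hQc b hb)
        (le_of_eq (card_map_of_injective (MulAut.conj g).injective).symm)
    have h2 : g * a * g⁻¹ ∈ (Q : Subgroup G).map (MulAut.conj g).toMonoidHom := hmap.ge h
    rw [mem_map_equiv, MulAut.conj_symm_apply] at h2
    rwa [show g⁻¹ * (g * a * g⁻¹) * g = a by group] at h2
  -- hence `|U| = 4`
  have hidx : D.relIndex U ≤ 2 := by
    by_contra hgt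
    haveI : (D.subgroupOf U).Normal := normal_subgroupOf_iff_le_normalizer hDU |>.2 hUN
    haveI := Fintype.ofFinite (U ⧸ D.subgroupOf U)
    have hall : ∀ c : U ⧸ D.subgroupOf U,
        c ∈ ({1, QuotientGroup.mk ⟨s, hsU⟩} : Finset (U ⧸ D.subgroupOf U)) := by
      intro c
      obtain ⟨x, rfl⟩ := QuotientGroup.mk_surjective c
      rw [Finset.mem_insert, Finset.mem_singleton]
      refine (hUD x x.2).imp (fun h => (QuotientGroup.eq_one_iff x).2 (mem_subgroupOf.2 h))
        fun h => ?_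
      rw [QuotientGroup.eq_iff_div_mem, div_eq_mul_inv, mem_subgroupOf]
      exact h
    have hle := (Finset.card_le_card fun c (_ : c ∈ Finset.univ) => hall c).trans Finset.card_le_two
    rw [Finset.card_univ, ← Nat.card_eq_fintype_card] at hle
    exact hgt hle
  have hcardU : Nat.card U = 4 := by
    have h1 : Nat.card U = Nat.card D * D.relIndex U := card_eq_card_mul_relIndex hDU
    have h2 : Nat.card Dg = Nat.card D := card_map_of_injective (MulAut.conj g).injective
    have hDgU : Dg ≤ U := by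
      rintro _ ⟨d, hd, rfl⟩
      exact (mem_normalizer_iff.1 hgN d).1 (hDU hd)
    have h3 : D.relIndex Dg = Nat.card Dg := by
      rw [← inf_relIndex_right, hint, relIndex_bot_left]
    have h4 : D.relIndex Dg ≤ D.relIndex U :=
      relIndex_le_of_le_right hDgU (index_ne_zero_of_finite (H := D.subgroupOf U))
    have h5 : 2 * Nat.card D ≤ Nat.card U := two_mul_card_le hDU ⟨s, hsU, fun h =>
      M.s_not_core2 (M.D_le_core2 h)⟩
    have h6 : 2 ≤ Nat.card D := (one_lt_card_iff_ne_bot D).2 L.D_ne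
    rw [h3, h2] at h4
    nlinarith
  have h8 : 8 ≤ Nat.card (T : Subgroup G) := by
    have := two_mul_card_le hUle (by
      by_contra hcon
      push Not at hcon
      exact hUT (le_antisymm hUle hcon))
    omega
  have heU : e ∈ U := hDU heD
  have hce4 : Nat.card (centralizer ({(⟨e, hUle heU⟩ : (T : Subgroup G))} :
      Set (T : Subgroup G))) = 4 := by
    rw [← hcardU, show centralizer ({(⟨e, hUle heU⟩ : (T : Subgroup G))} : Set (T : Subgroup G)) =
      (cent e).subgroupOf (T : Subgroup G) from cent_subgroupOf (T : Subgroup G) ⟨e, hUle heU⟩]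
    rw [← inf_subgroupOf_right, inf_comm]
    exact Nat.card_congr (subgroupOfEquivOfLe inf_le_left).toEquiv
  obtain ⟨a, ha⟩ := CentFour.exists_cyclic_index_two (T : Subgroup G) T.isPGroup' ⟨e, hUle heU⟩
    (by rw [Subgroup.orderOf_mk, ho]) hce4 h8
  set A := zpowers (a : G) with hA
  have hAT : A ≤ (T : Subgroup G) := zpowers_le.2 a.2
  have hAeq : A.subgroupOf (T : Subgroup G) = zpowers a := by
    have h := map_subgroupOf_eq_of_le hAT
    refine Subgroup.map_injective (subtype_injective (T : Subgroup G)) ?_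
    rw [h, MonoidHom.map_zpowers]
    rfl
  have hArel : A.relIndex (T : Subgroup G) = 2 := by rw [relIndex, hAeq, ha]
  -- the involution of `A` is central in `T`
  have hAc : ∀ x ∈ A, orderOf x = 2 → x ∈ centralizer ((T : Subgroup G) : Set G) := by
    intro x hx hx2
    haveI := normal_of_index_eq_two (H := A.subgroupOf (T : Subgroup G)) hArel
    have hn := normal_subgroupOf_iff_le_normalizer hAT |>.1 inferInstance
    refine mem_centralizer_iff.2 fun t ht => ?_
    have h1 : t * x * t⁻¹ ∈ A := (mem_normalizer_iff.1 (hn ht) x).1 hx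
    have h2 := involution_unique h1 hx (by
      rw [← hx2]; simpa using (MulAut.conj t).orderOf_eq x) hx2
    calc t * x = t * x * t⁻¹ * t := by group
      _ = x * t := by rw [h2]
  have heA : e ∉ A := fun h => M.e_not_central (hAc e h ho)
  rcases S0111.result T A hAT hArel e ho (hUle heU) heA with ⟨Mn, hMn, hMi, -⟩ | ⟨c, hc⟩
  · rcases hMn.eq_bot_or_eq_top with rfl | rfl
    · rw [index_bot] at hMi
      haveI := isCyclic_of_prime_card (p := 2) hMi
      exact HY.nonab IsCyclic.isMulCommutative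
    · rw [index_top] at hMi
      omega
  · have hx2 : orderOf (c * e * c⁻¹) = 2 := by
      rw [← ho]; simpa using (MulAut.conj c).orderOf_eq e
    exact M.typ_ne_two ((typ_conj_iff c).1 (typ_of_mem_centralizer T (hAc _ hc hx2)))

end LS

namespace Hyp

variable (H : Hyp G)

include H

theorem all_comm (l : ℕ) [hl : Fact l.Prime] (P : Sylow l G) :
    IsMulCommutative (P : Subgroup G) := by
  haveI : Fact (Nat.Prime 2) := ⟨Nat.prime_two⟩
  obtain ⟨q, r, hq, hr, q2, r2, qr, hpi⟩ := H.exists_primes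
  have R : Primes G q r := ⟨hq, hr, q2, r2, qr, hpi⟩
  haveI := Fact.mk hq
  haveI := Fact.mk hr
  by_cases h2 : l = 2
  swap
  · exact H.comm_of_ne_two R h2 P
  subst h2
  by_contra hnc
  have hnab : ∀ T : Sylow 2 G, ¬ IsMulCommutative (T : Subgroup G) := fun T h =>
    hnc (sylow_comm_of T P h)
  -- an involution of odd type
  obtain ⟨x, ⟨k, hk⟩, hx⟩ : ∃ x : G, (∃ k : ℕ, orderOf x = 2 ^ k) ∧ 2 ∣ (cent x).index := by
    by_contra hcon
    push Not at hcon
    exact hnc (S4355.result (fun x hx => hcon x hx) P)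
  have hx1 : x ≠ 1 := fun e => by
    rw [e, index_cent_eq_one_iff.2 (one_mem _)] at hx
    omega
  obtain ⟨n, hn⟩ := exists_pow_orderOf Nat.prime_two (pel_of_orderOf hk) hx1
  obtain ⟨t, ht, htx⟩ := H.exists_typ hx1
  have htu : Typ t (x ^ n) := htx.pow n
  have ht2 : t ≠ 2 := fun e => (e ▸ htx) hx
  wlog htq : t = q generalizing q r
  · have htr : t = r := by
      have := ht
      rw [R.pi] at this
      simp only [Finset.mem_insert, Finset.mem_singleton] at this
      tauto
    exact this r q hr hq r2 q2 qr.symm (R.swap.pi) R.swap inferInstance inferInstance htr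
  subst htq
  set u := x ^ n
  obtain ⟨Q, hQu⟩ := htu.exists_sylow_le
  by_cases hk2 : kk (Q : Subgroup G) = 2
  · obtain ⟨D, s, L⟩ := exists_ls H R Q hk2 hn hQu
    exact L.false_of_not_comm hnab
  have hq3 : 3 ≤ kk (Q : Subgroup G) := by
    have h : 2 ≤ kk (Q : Subgroup G) :=
      two_le_relIndex (H.no_complement (Nat.dvd_of_mem_primeFactors R.mem_q)) Q
    omega
  have hT4 : ∀ T : Sylow 2 G, 4 ≤ kk (T : Subgroup G) ∧ 4 ∣ kk (T : Subgroup G) := fun T => by
    have h : 2 ^ 2 ∣ kk (T : Subgroup G) := sq_dvd_relIndex_of_not_comm T (hnab T)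
    exact ⟨Nat.le_of_dvd (Nat.pos_of_ne_zero index_ne_zero_of_finite) h, h⟩
  have hval : ∀ (T : Sylow 2 G) (S : Sylow r G),
      kk (T : Subgroup G) = 4 ∧ kk (Q : Subgroup G) = 3 ∧ kk (S : Subgroup G) = 2 := by
    intro T S
    have h := H.k_ineq R T Q S
    have hS : 2 ≤ kk (S : Subgroup G) :=
      two_le_relIndex (H.no_complement (Nat.dvd_of_mem_primeFactors R.mem_r)) S
    obtain ⟨h4, h4'⟩ := hT4 T
    generalize kk (T : Subgroup G) = a at *
    generalize kk (Q : Subgroup G) = b at *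
    generalize kk (S : Subgroup G) = c at *
    have hc : c = 2 := by
      by_contra hc
      have : 3 ≤ c := by omega
      nlinarith [Nat.mul_le_mul h4 hq3, Nat.mul_le_mul (Nat.mul_le_mul h4 hq3) this,
        Nat.mul_le_mul h4 this, Nat.mul_le_mul hq3 this]
    subst hc
    have ha : a = 4 := by
      by_contra ha
      have : 8 ≤ a := by omega
      nlinarith [Nat.mul_le_mul this hq3]
    subst ha
    refine ⟨rfl, by omega, rfl⟩
  by_cases hr' : ∀ a b : G, orderOf a = 2 → orderOf b = r → ¬ Commute a b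
  · obtain ⟨S⟩ : Nonempty (Sylow r G) := inferInstance
    exact H.case_three R (fun T => (hval T S).1) hnab hr' hn htu Q hQu
      (hval P S).2.1
  push Not at hr'
  obtain ⟨a, b, ha, hb, hab⟩ := hr'
  obtain ⟨t', ht', hta⟩ := H.exists_typ (ne_one_of_orderOf Nat.prime_two ha)
  have hbp : PEl r b := pel_of_orderOf (n := 1) (by rw [hb, pow_one])
  have htr : t' = r := H.typ_commute hab Nat.prime_two hr r2.symm
    (pel_of_orderOf (n := 1) (by rw [ha, pow_one])) hbp (ne_one_of_orderOf Nat.prime_two ha)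
    (ne_one_of_orderOf hr hb) ht' R.mem_r hta (H.typ_pel' R r2 hbp)
  subst htr
  obtain ⟨S, hSa⟩ := hta.exists_sylow_le
  obtain ⟨D, s, L⟩ := exists_ls H R.swap S (hval P S).2.2 ha hSa
  exact L.false_of_not_comm hnab

theorem classify :
    ∃ f, (f = 2 ∨ f = 3) ∧ Nat.card G = 2 ^ f * ((2 ^ f - 1) * (2 ^ f + 1)) ∧
      Nonempty (G ≃* Matrix.ProjectiveSpecialLinearGroup (Fin 2) (GaloisField 2 f)) :=
  H.abelian_case fun l _ P => H.all_comm l P

end Hyp

end Cfsg.Agent.TwoPrimes
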