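import Cfsg.Agent.Lib.TwoPrimes.Basic

/-!
Counting the elements of type `p`, allowing for elements in two centralizers.
-/

set_option autoImplicit false
set_option linter.style.haveILetI false
set_option linter.unusedSectionVars false

namespace Cfsg.Agent.TwoPrimes

open Subgroup ThreeSizes

theorem double_count {ι α : Type*} [Fintype ι] [DecidableEq α] (S M : ι → Finset α)
    (hM : ∀ i, ∀ x ∈ M i, ∃ j, j ≠ i ∧ x ∈ S j) :
    2 * (Finset.univ.biUnion S).card ≤ ∑ i, (S i).card + ∑ i, (S i \ M i).card := by
  classical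
  set U := Finset.univ.biUnion S
  have h1 : ∀ F : ι → Finset α, (∀ i, F i ⊆ U) →
      ∑ i, (F i).card = ∑ x ∈ U, ((Finset.univ : Finset ι).filter fun i => x ∈ F i).card := by
    intro F hF
    simp only [Finset.card_filter]
    rw [Finset.sum_comm]
    refine Finset.sum_congr rfl fun i _ => ?_
    rw [← Finset.card_filter]
    congr 1
    ext x
    simp only [Finset.mem_filter]
    exact ⟨fun h => ⟨hF i h, h⟩, fun h => h.2⟩
  rw [h1 S fun i => Finset.subset_biUnion_of_mem S (Finset.mem_univ i),
    h1 (fun i => S i \ M i) fun i =>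
      Finset.sdiff_subset.trans (Finset.subset_biUnion_of_mem S (Finset.mem_univ i)),
    ← Finset.sum_add_distrib, mul_comm, ← smul_eq_mul, ← Finset.sum_const]
  refine Finset.sum_le_sum fun x hx => ?_
  obtain ⟨i, -, hi⟩ := Finset.mem_biUnion.1 hx
  have hpos : 0 < ((Finset.univ : Finset ι).filter fun j => x ∈ S j).card :=
    Finset.card_pos.2 ⟨i, by simp [hi]⟩
  by_cases hiM : x ∈ M i
  · obtain ⟨j, hji, hj⟩ := hM i x hiM
    have : 1 < ((Finset.univ : Finset ι).filter fun j => x ∈ S j).card :=
      Finset.one_lt_card.2 ⟨i, by simp [hi], j, by simp [hj], hji.symm⟩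
    omega
  · have : 0 < ((Finset.univ : Finset ι).filter fun j => x ∈ S j \ M j).card :=
      Finset.card_pos.2 ⟨i, by simp [hi, hiM]⟩
    omega

variable {G : Type*} [Group G] [Finite G]

theorem mem_centralizer_smul {p : ℕ} (P : Sylow p G) (g x : G) :
    g * x * g⁻¹ ∈ centralizer (((g • P : Sylow p G) : Subgroup G) : Set G) ↔
      x ∈ centralizer ((P : Subgroup G) : Set G) := by
  have hmem : ∀ y : G, y ∈ ((g • P : Sylow p G) : Subgroup G) ↔ g⁻¹ * y * g ∈ (P : Subgroup G) := by
    intro y
    rw [Sylow.coe_subgroup_smul, Subgroup.mem_pointwise_smul_iff_inv_smul_mem]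
    simp [MulAut.smul_def, mul_assoc]
  simp only [mem_centralizer_iff, SetLike.mem_coe]
  constructor
  · intro h y hy
    have := h (g * y * g⁻¹) ((hmem _).2 (by simpa [mul_assoc] using hy))
    calc y * x = g⁻¹ * ((g * y * g⁻¹) * (g * x * g⁻¹)) * g := by group
      _ = g⁻¹ * ((g * x * g⁻¹) * (g * y * g⁻¹)) * g := by rw [this]
      _ = x * y := by group
  · intro h y hy
    have := h _ ((hmem y).1 hy)
    calc y * (g * x * g⁻¹) = g * ((g⁻¹ * y * g) * x) * g⁻¹ := by group
      _ = g * (x * (g⁻¹ * y * g)) * g⁻¹ := by rw [this]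
      _ = g * x * g⁻¹ * y := by group

/-- The elements of type `p` when some elements lie in two of the centralizers. -/
theorem two_mul_reg_le_of_shared {p : ℕ} [Fact p.Prime] (P : Sylow p G) (M : Finset G)
    (hM : ∀ x ∈ M, x ≠ 1 ∧ x ∈ centralizer ((P : Subgroup G) : Set G) ∧
      ∃ P' : Sylow p G, P' ≠ P ∧ x ∈ centralizer ((P' : Subgroup G) : Set G)) :
    2 * (ClassCover.regSet (G := G) p).ncard +
        (normalizer ((P : Subgroup G) : Set G)).index * (M.card + 2) ≤
      (normalizer ((P : Subgroup G) : Set G)).index *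
        (2 * Nat.card (centralizer ((P : Subgroup G) : Set G))) + 2 := by
  classical
  haveI := Fintype.ofFinite G
  haveI := Fintype.ofFinite (Sylow p G)
  choose g hg using fun P' : Sylow p G => MulAction.exists_smul_eq G P P'
  set e : Sylow p G → G ↪ G := fun P' => (MulAut.conj (g P')).toEquiv.toEmbedding with he
  have hev : ∀ P' x, e P' x = g P' * x * (g P')⁻¹ := fun _ _ => rfl
  set S0 : Finset G := (Finset.univ : Finset G).filter
    fun x => x ≠ 1 ∧ x ∈ centralizer ((P : Subgroup G) : Set G)
  set S : Sylow p G → Finset G := fun P' => S0.map (e P') with hS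
  set M' : Sylow p G → Finset G := fun P' => M.map (e P') with hM'
  have hmem : ∀ P' x, x ∈ S P' ↔ x ≠ 1 ∧ x ∈ centralizer ((P' : Subgroup G) : Set G) := by
    intro P' x
    have hx : e P' ((g P')⁻¹ * x * g P') = x := by rw [hev]; group
    have key := mem_centralizer_smul P (g P') ((g P')⁻¹ * x * g P')
    rw [hg P', ← hev, hx] at key
    have h1 : (g P')⁻¹ * x * g P' = 1 ↔ x = 1 := by
      constructor
      · intro h; rw [← hx, h, hev]; group
      · rintro rfl; group
    constructor
    · intro h
      rw [← hx, hS, Finset.mem_map', Finset.mem_filter] at h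
      exact ⟨fun e1 => h.2.1 (h1.2 e1), key.2 h.2.2⟩
    · intro h
      rw [← hx, hS, Finset.mem_map', Finset.mem_filter]
      exact ⟨Finset.mem_univ _, fun e1 => h.1 (h1.1 e1), key.1 h.2⟩
  have hdc := double_count S M' (by
    intro P' x hx
    rw [hM', Finset.mem_map] at hx
    obtain ⟨y, hy, rfl⟩ := hx
    obtain ⟨hy1, -, P2, hP2, hyP2⟩ := hM y hy
    refine ⟨g P' • P2, fun e => hP2 ?_, (hmem _ _).2 ⟨?_, ?_⟩⟩
    · exact smul_left_cancel (g P') (e.trans (hg P').symm)
    · rw [hev]; exact fun h => hy1 (conj_eq_one_iff.1 h)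
    · rw [hev]; exact (mem_centralizer_smul P2 _ _).2 hyP2)
  have hsub : M ⊆ S0 := fun x hx => by
    rw [Finset.mem_filter]; exact ⟨Finset.mem_univ _, (hM x hx).1, (hM x hx).2.1⟩
  have hd : ∀ P', (S P' \ M' P').card + M.card = S0.card := by
    intro P'
    rw [hS, hM', ← Finset.map_sdiff, Finset.card_map, Finset.card_sdiff_add_card_eq_card hsub]
  have hn : Fintype.card (Sylow p G) = (normalizer ((P : Subgroup G) : Set G)).index := by
    rw [← Nat.card_eq_fintype_card, P.card_eq_index_normalizer]
    rfl
  have hC : S0.card + 1 = Nat.card (centralizer ((P : Subgroup G) : Set G)) := by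
    rw [Nat.card_eq_fintype_card, Fintype.card_subtype,
      ← Finset.card_erase_add_one (s := (Finset.univ : Finset G).filter
        fun x => x ∈ centralizer ((P : Subgroup G) : Set G)) (a := (1 : G))
        (by simp [one_mem])]
    congr 2
    ext x
    simp [S0, and_comm]
  have hreg : (ClassCover.regSet (G := G) p).ncard ≤ (Finset.univ.biUnion S).card + 1 := by
    refine le_trans ?_ (Finset.card_insert_le (1 : G) _)
    rw [← Set.ncard_coe_finset]
    refine Set.ncard_le_ncard (fun x hx => ?_) (Finset.finite_toSet _)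
    rw [Finset.mem_coe, Finset.mem_insert, or_iff_not_imp_left]
    intro hx1
    obtain ⟨P', hP'⟩ := ClassCover.exists_sylow_of_mem p hx
    exact Finset.mem_biUnion.2 ⟨P', Finset.mem_univ _, (hmem _ _).2 ⟨hx1, hP'⟩⟩
  have hsum : ∑ P', (S P' \ M' P').card + Fintype.card (Sylow p G) * M.card =
      Fintype.card (Sylow p G) * S0.card := by
    have : ∑ P', ((S P' \ M' P').card + M.card) = ∑ _P' : Sylow p G, S0.card :=
      Finset.sum_congr rfl fun P' _ => hd P'
    simpa [Finset.sum_add_distrib] using this
  have hsum2 : ∑ P', (S P').card = Fintype.card (Sylow p G) * S0.card := by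
    simp [hS]
  rw [← hn, ← hC]
  generalize (Finset.univ.biUnion S).card = u at *
  generalize ∑ P', (S P' \ M' P').card = a at *
  generalize ∑ P', (S P').card = b at *
  nlinarith

/-- The identity lies in every centralizer. -/
theorem reg_add_le {p : ℕ} [Fact p.Prime] (P : Sylow p G) :
    (ClassCover.regSet (G := G) p).ncard + (normalizer ((P : Subgroup G) : Set G)).index ≤
      (normalizer ((P : Subgroup G) : Set G)).index *
        Nat.card (centralizer ((P : Subgroup G) : Set G)) + 1 := by
  have h := two_mul_reg_le_of_shared P ∅ (by simp)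
  rw [Finset.card_empty] at h
  generalize (normalizer ((P : Subgroup G) : Set G)).index = n at *
  generalize Nat.card (centralizer ((P : Subgroup G) : Set G)) = c at *
  nlinarith

end Cfsg.Agent.TwoPrimes
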