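import Cfsg.Agent.Lib.TwoPrimes.LocalInv
import Cfsg.Agent.Lib.TwoPrimes.Count

/-!
The counting argument against central elements in the `2`-core of the centralizer.
-/

set_option autoImplicit false
set_option linter.style.haveILetI false
set_option linter.unusedSectionVars false

namespace Cfsg.Agent.TwoPrimes

open Subgroup ThreeSizes

universe u

variable {G : Type u} [Group G] [Finite G] {q r : ℕ} [Fact q.Prime] [Fact r.Prime] {Q : Sylow q G}
  {D : Subgroup G} {s e : G} {T : Sylow 2 G}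

theorem card_eq_card_mul_relIndex {H K : Subgroup G} (h : H ≤ K) :
    Nat.card K = Nat.card H * H.relIndex K := by
  rw [← relIndex_bot_left, ← relIndex_bot_left, relIndex_mul_relIndex ⊥ H K bot_le h]

theorem two_mul_card_le {H K : Subgroup G} (h : H ≤ K) (hne : ∃ x ∈ K, x ∉ H) :
    2 * Nat.card H ≤ Nat.card K := by
  rw [card_eq_card_mul_relIndex h, mul_comm 2]
  refine Nat.mul_le_mul_left _ ?_
  by_contra hlt
  have h0 : H.relIndex K ≠ 0 := index_ne_zero_of_finite (H := H.subgroupOf K)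
  obtain ⟨x, hx, hxH⟩ := hne
  exact hxH ((relIndex_eq_one.1 (by omega)) hx)

theorem fibre_arith {g n R' k2 A Bq C' dD cQ B m : ℕ} (hG : g = 2 * (cQ * dD) * n)
    (hsum : A + (Bq + C') = g + 2) (h2 : A * k2 ≤ g) (hr : 2 * C' ≤ g)
    (hcnt : 2 * Bq + n * (m + 2) ≤ n * (2 * (cQ * dD)) + 2) (hm : B * dD ≤ m + 1)
    (hQ : cQ ≤ 2 * B * R') (hk : 8 * R' ≤ k2) (hn : 0 < n) (hB : 0 < B) (hD : 0 < dD)
    (hR : 0 < R') : False := by
  subst hG
  have h0 : n * (B * dD + 1) ≤ n * (m + 2) := Nat.mul_le_mul_left _ (by omega)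
  have e1 : 2 * Bq + n * (B * dD + 1) ≤ 2 * (cQ * dD) * n + 2 := by nlinarith
  have e2 : n * (B * dD + 1) + 2 ≤ 2 * A := by nlinarith
  have e3 : k2 * (n * (B * dD + 1) + 2) ≤ 4 * (cQ * dD) * n := by
    have : k2 * (n * (B * dD + 1) + 2) ≤ k2 * (2 * A) := Nat.mul_le_mul_left _ e2
    nlinarith
  have e4 : 4 * (cQ * dD) * n ≤ 8 * R' * (B * dD * n) := by
    have : cQ * (dD * n) ≤ 2 * B * R' * (dD * n) := Nat.mul_le_mul_right _ hQ
    nlinarith
  have e5 : 8 * R' * (B * dD * n) ≤ k2 * (B * dD * n) := Nat.mul_le_mul_right _ hk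
  have hk2 : 0 < k2 := by omega
  nlinarith [Nat.mul_pos hk2 hn]

namespace LH

variable (M : LH G q r Q D s e T)

include M

theorem typ_ne_two : ¬ Typ 2 e := fun h =>
  M.ls.primes.q2 (M.ls.hyp.typ_unique M.e_ne M.ls.primes.mem_q M.ls.primes.mem_two M.typ_e h)

theorem e_not_central : e ∉ centralizer ((T : Subgroup G) : Set G) := fun h =>
  haveI : Fact (Nat.Prime 2) := ⟨Nat.prime_two⟩
  M.typ_ne_two (typ_of_mem_centralizer T h)

/-- Not all of the centre of the Sylow subgroup lies in the core. -/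
theorem not_inside (hk2 : Nat.card (T : Subgroup G) ≤ kk (T : Subgroup G) *
      Nat.card (centralizer ((T : Subgroup G) : Set G)))
    (hall : ∀ z ∈ centralizer ((T : Subgroup G) : Set G), z ∈ core2 e) : False := by
  classical
  haveI : Fact (Nat.Prime 2) := ⟨Nat.prime_two⟩
  haveI := Fintype.ofFinite G
  have HY := M.ls.hyp
  have R := M.ls.primes
  set W := core2 e with hW
  set Z := centralizer ((T : Subgroup G) : Set G) with hZ
  set U := (T : Subgroup G) ⊓ cent e with hU
  set ZW := W ⊓ centralizer (W : Set G) with hZW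
  set CQ := centralizer ((Q : Subgroup G) : Set G) with hCQ
  have hWT : W ≤ (T : Subgroup G) := M.core2_le_T
  have hZT : Z ≤ (T : Subgroup G) := HY.centralizer_sylow_le R T
  have hZZW : Z ≤ ZW := fun z hz => mem_inf.2 ⟨hall z hz, mem_centralizer_iff.2 fun v hv =>
    mem_centralizer_iff.1 hz v (hWT hv)⟩
  have hcommZW : ∀ a ∈ ZW, ∀ b ∈ ZW, a * b = b * a := fun a ha b hb =>
    (mem_centralizer_iff.1 (mem_inf.1 hb).2 a (mem_inf.1 ha).1)
  have hnorm : ∀ g ∈ cent e, ∀ a ∈ ZW, g * a * g⁻¹ ∈ ZW := by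
    intro g hg a ha
    have hgN := M.core2_norm hg
    refine mem_inf.2 ⟨(mem_normalizer_iff.1 hgN a).1 (mem_inf.1 ha).1,
      mem_centralizer_iff.2 fun v hv => ?_⟩
    have hv' : g⁻¹ * v * g ∈ W := by
      have := (mem_normalizer_iff.1 (inv_mem hgN) v).1 hv
      rwa [inv_inv] at this
    have := mem_centralizer_iff.1 (mem_inf.1 ha).2 _ hv'
    calc v * (g * a * g⁻¹) = g * (g⁻¹ * v * g * a) * g⁻¹ := by group
      _ = g * (a * (g⁻¹ * v * g)) * g⁻¹ := by rw [this]
      _ = g * a * g⁻¹ * v := by group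
  -- the homomorphism `a ↦ s a s⁻¹ a⁻¹`
  let φ : ZW →* G :=
    { toFun := fun a => s * (a : G) * s⁻¹ * (a : G)⁻¹
      map_one' := by simp
      map_mul' := fun a b => by
        have h1 : s * (b : G) * s⁻¹ * (b : G)⁻¹ ∈ ZW :=
          mul_mem (hnorm s M.s_mem_cent _ b.2) (inv_mem b.2)
        have h2 := hcommZW _ h1 _ (inv_mem a.2)
        simp only [Subgroup.coe_mul, mul_inv_rev]
        calc s * ((a : G) * b) * s⁻¹ * ((b : G)⁻¹ * (a : G)⁻¹)
            = (s * a * s⁻¹) * ((s * b * s⁻¹ * (b : G)⁻¹) * (a : G)⁻¹) := by group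
          _ = (s * a * s⁻¹) * ((a : G)⁻¹ * (s * b * s⁻¹ * (b : G)⁻¹)) := by rw [h2]
          _ = _ := by group }
  set K := φ.ker.map ZW.subtype with hK
  have hKmem : ∀ a, a ∈ K ↔ a ∈ ZW ∧ s * a = a * s := by
    intro a
    constructor
    · rintro ⟨b, hb, rfl⟩
      refine ⟨b.2, ?_⟩
      have h : s * (b : G) * s⁻¹ * (b : G)⁻¹ = 1 := MonoidHom.mem_ker.1 hb
      calc s * (b : G) = s * (b : G) * s⁻¹ * (b : G)⁻¹ * ((b : G) * s) := by group
        _ = _ := by rw [h, one_mul]; rfl
    · rintro ⟨ha, hs⟩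
      refine ⟨⟨a, ha⟩, MonoidHom.mem_ker.2 ?_, rfl⟩
      show s * a * s⁻¹ * a⁻¹ = 1
      rw [hs]; group
  have hcardK : Nat.card φ.range * Nat.card K = Nat.card ZW := by
    rw [hK, card_map_of_injective ZW.subtype_injective, ← φ.ker.card_mul_index,
      Subgroup.index_ker, mul_comm]
  -- the chain of orders
  have hrange : 8 * Nat.card φ.range ≤ kk (T : Subgroup G) := by
    have hZK : Z ≤ K := fun z hz =>
      (hKmem z).2 ⟨hZZW hz, mem_centralizer_iff.1 hz s M.s_mem_T⟩
    have heK : e ∈ K := (hKmem e).2 ⟨mem_inf.2 ⟨M.D_le_core2 M.mem, mem_centralizer_iff.2 fun v hv =>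
      mem_cent.1 (M.core2_le hv)⟩, M.comm_s.eq.symm⟩
    have h1 : 2 * Nat.card Z ≤ Nat.card K := two_mul_card_le hZK ⟨e, heK, M.e_not_central⟩
    have h2 : 2 * Nat.card W ≤ Nat.card U :=
      two_mul_card_le (le_inf hWT M.core2_le) ⟨s, ⟨M.s_mem_T, M.s_mem_cent⟩, M.s_not_core2⟩
    have h3 : 2 * Nat.card U ≤ Nat.card (T : Subgroup G) := by
      refine two_mul_card_le inf_le_left ?_
      by_contra hcon
      push Not at hcon
      exact M.e_not_central (mem_centralizer_iff.2 fun x hx =>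
        mem_cent.1 (mem_inf.1 (hcon x hx)).2)
    have h4 : Nat.card ZW ≤ Nat.card W := Nat.le_of_dvd Nat.card_pos (card_dvd_of_le inf_le_left)
    have hpos : 0 < Nat.card Z := Nat.card_pos
    generalize Nat.card φ.range = R' at *
    generalize kk (T : Subgroup G) = k2 at *
    generalize Nat.card Z = cz at *
    generalize Nat.card K = ck at *
    generalize Nat.card W = cw at *
    generalize Nat.card U = cu at *
    generalize Nat.card ZW = czw at *
    generalize Nat.card (T : Subgroup G) = ct at *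
    have : 8 * R' * cz ≤ k2 * cz := by nlinarith
    exact Nat.le_of_mul_le_mul_right this hpos
  -- the bad elements
  obtain ⟨z, hz2, hzT, hzZ⟩ := HY.exists_central R T
  have hz1 := ne_one_of_orderOf Nat.prime_two hz2
  have hzz : z * z = 1 := by rw [← pow_two, ← hz2, pow_orderOf_eq_one]
  have hzZW : z ∈ ZW := hZZW hzZ
  have hzC : z ∉ CQ := by
    intro h
    obtain ⟨y, hy, hy1⟩ := M.ls.Q_ne
    exact HY.not_commute_central R hzT hz1 hzZ (M.ls.odd_Q hy) hy1 (mem_centralizer_iff.1 h y hy)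
  set Qs : Finset G := (Finset.univ : Finset G).filter (· ∈ (Q : Subgroup G)) with hQs
  set Bad : Finset G := Qs.filter fun y => ∃ w ∈ ZW, w ∉ CQ ∧ w * y = y * w with hBad
  have hQcard : Qs.card = Nat.card Q := by
    rw [hQs, ← Fintype.card_subtype, ← Nat.card_eq_fintype_card]
  have hone : (1 : G) ∈ Bad := by
    rw [hBad, Finset.mem_filter, hQs, Finset.mem_filter]
    exact ⟨⟨Finset.mem_univ _, one_mem _⟩, z, hzZW, hzC, by rw [mul_one, one_mul]⟩
  set f : G → G := fun y => (y * z * y⁻¹) * (y⁻¹ * z * y) with hf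
  have hfR : ∀ y ∈ Qs, f y ∈ (φ.range : Set G) := by
    intro y hy
    rw [hQs, Finset.mem_filter] at hy
    have ha : y * z * y⁻¹ ∈ ZW := hnorm y (M.Q_le hy.2) z hzZW
    refine ⟨⟨_, ha⟩, ?_⟩
    show s * (y * z * y⁻¹) * s⁻¹ * (y * z * y⁻¹)⁻¹ = f y
    have hsz : s * z * s⁻¹ = z := by
      rw [mem_centralizer_iff.1 hzZ s M.s_mem_T, mul_inv_cancel_right]
    have hsb : s * (y * z * y⁻¹) * s⁻¹ = y⁻¹ * z * y := by
      have e1 := M.ls.s_inv y hy.2
      calc s * (y * z * y⁻¹) * s⁻¹ = (s * y * s⁻¹) * (s * z * s⁻¹) * (s * y * s⁻¹)⁻¹ := by group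
        _ = _ := by rw [e1, hsz, inv_inv]
    have hinv : (y * z * y⁻¹)⁻¹ = y * z * y⁻¹ := by
      refine inv_eq_of_mul_eq_one_right ?_
      calc y * z * y⁻¹ * (y * z * y⁻¹) = y * (z * z) * y⁻¹ := by group
        _ = 1 := by rw [hzz]; group
    rw [hsb, hinv, hf]
    exact hcommZW _ (hsb ▸ hnorm s M.s_mem_cent _ ha) _ ha
  have hfib : ∀ y ∈ Qs, (Qs.filter fun y' => f y' = f y).card ≤ 2 * Bad.card := by
    intro y hy
    have hsub : (Qs.filter fun y' => f y' = f y) ⊆ insert y (Bad.image fun c => y⁻¹ * c) := by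
      intro y' hy'
      rw [Finset.mem_filter] at hy'
      rw [Finset.mem_insert, or_iff_not_imp_left]
      intro hne
      refine Finset.mem_image.2 ⟨y * y', ?_, inv_mul_cancel_left y y'⟩
      rw [hQs, Finset.mem_filter] at hy
      have hy'Q : y' ∈ (Q : Subgroup G) := by
        have h := hy'.1
        rw [hQs, Finset.mem_filter] at h
        exact h.2
      rw [hBad, Finset.mem_filter, hQs, Finset.mem_filter]
      refine ⟨⟨Finset.mem_univ _, mul_mem hy.2 hy'Q⟩, ?_⟩
      set d := y⁻¹ * y' with hd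
      have hdQ : d ∈ (Q : Subgroup G) := mul_mem (inv_mem hy.2) hy'Q
      have hd1 : d ≠ 1 := fun h => hne (inv_mul_eq_one.1 h).symm
      set zd := d * z * d⁻¹ with hzd
      have hzdW : zd ∈ ZW := hnorm d (M.Q_le hdQ) z hzZW
      set w := z * zd with hw
      have hwW : w ∈ ZW := mul_mem hzZW hzdW
      refine ⟨w, hwW, fun hwC => ?_, ?_⟩
      · have hcw : d * w * d⁻¹ = w := by
          rw [mem_centralizer_iff.1 hwC d hdQ, mul_inv_cancel_right]
        have h2 : d * d * z * (d * d)⁻¹ = z := by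
          have e1 : d * w * d⁻¹ = zd * (d * d * z * (d * d)⁻¹) := by rw [hw, hzd]; group
          have e2 : w = zd * z := by rw [hw, hcommZW z hzZW zd hzdW]
          exact mul_left_cancel (e1.symm.trans (hcw.trans e2))
        have h3 : Commute (d * d) z := by
          show d * d * z = z * (d * d)
          calc d * d * z = d * d * z * (d * d)⁻¹ * (d * d) := by group
            _ = z * (d * d) := by rw [h2]
        exact HY.not_commute_central R hzT hz1 hzZ (M.ls.odd_Q hdQ) hd1
          (commute_of_sq (M.ls.odd_Q hdQ) h3)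
      · have hye : y' = y * d := by rw [hd, mul_inv_cancel_left]
        have hA : ∀ x ∈ (Q : Subgroup G), x * z * x⁻¹ ∈ ZW := fun x hx =>
          hnorm x (M.Q_le hx) z hzZW
        have hB : ∀ x ∈ (Q : Subgroup G), x⁻¹ * z * x ∈ ZW := fun x hx => by
          have := hA _ (inv_mem hx)
          rwa [inv_inv] at this
        set a := y * z * y⁻¹ with ha
        set b := y⁻¹ * z * y with hb
        set a' := y' * z * y'⁻¹ with ha'
        set b' := y'⁻¹ * z * y' with hb'
        have haa : a * a = 1 := by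
          calc a * a = y * (z * z) * y⁻¹ := by rw [ha]; group
            _ = 1 := by rw [hzz]; group
        have hb'b' : b' * b' = 1 := by
          calc b' * b' = y'⁻¹ * (z * z) * y' := by rw [hb']; group
            _ = 1 := by rw [hzz]; group
        have heq : a' * b' = a * b := hy'.2
        have h1 : a * a' = b * b' := by
          calc a * a' = a * (a' * b') * b' := by
                rw [mul_assoc a, mul_assoc a' b' b', hb'b', mul_one]
            _ = a * (a * b) * b' := by rw [heq]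
            _ = b * b' := by rw [← mul_assoc a a b, haa, one_mul]
        have e1 : a * a' = y * w * y⁻¹ := by rw [ha, ha', hw, hzd, hye]; group
        have e2 : b * b' = y'⁻¹ * w * y' := by
          have hye' : y' = d * y := by
            haveI := HY.comm_odd R Q
            exact hye.trans (congrArg Subtype.val
              (mul_comm' (⟨y, hy.2⟩ : (Q : Subgroup G)) ⟨d, hdQ⟩))
          have e3 : b * b' = y'⁻¹ * (zd * z) * y' := by rw [hb, hb', hzd, hye']; group
          rw [e3, hw, hcommZW z hzZW zd hzdW]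
        have h2 : y' * (y * w * y⁻¹) * y'⁻¹ = w := by
          rw [← e1, h1, e2]; group
        have hyy : y' * y = y * y' := by
          haveI := HY.comm_odd R Q
          exact congrArg Subtype.val (mul_comm' (⟨y', hy'Q⟩ : (Q : Subgroup G)) ⟨y, hy.2⟩)
        calc w * (y * y') = y' * (y * w * y⁻¹) * y'⁻¹ * (y' * y) := by rw [h2, hyy]
          _ = y' * y * w := by group
          _ = y * y' * w := by rw [hyy]
    refine (Finset.card_le_card hsub).trans ((Finset.card_insert_le _ _).trans ?_)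
    have h1 : (Bad.image fun c => y⁻¹ * c).card ≤ Bad.card := Finset.card_image_le
    have h2 : 0 < Bad.card := Finset.card_pos.2 ⟨1, hone⟩
    omega
  have hQle : Nat.card Q ≤ 2 * Bad.card * Nat.card φ.range := by
    rw [← hQcard]
    refine (Finset.card_le_mul_card_image Qs (2 * Bad.card) (f := f) ?_).trans
      (Nat.mul_le_mul_left _ ?_)
    · intro b hb
      obtain ⟨y, hy, rfl⟩ := Finset.mem_image.1 hb
      exact hfib y hy
    · refine le_trans ?_ (le_of_eq (Nat.card_coe_set_eq (φ.range : Set G)).symm)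
      rw [← Set.ncard_coe_finset]
      refine Set.ncard_le_ncard (fun x hx => ?_) (Set.toFinite _)
      obtain ⟨y, hy, rfl⟩ := Finset.mem_image.1 hx
      exact hfR y hy
  -- the shared elements
  set Ds : Finset G := (Finset.univ : Finset G).filter (· ∈ D) with hDs
  have hDcard : Ds.card = Nat.card D := by
    rw [hDs, ← Fintype.card_subtype, ← Nat.card_eq_fintype_card]
  set M0 : Finset G := ((Bad ×ˢ Ds).image fun p => p.1 * p.2).erase 1 with hM0
  have hM0c : Bad.card * Nat.card D ≤ M0.card + 1 := by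
    rw [← hDcard, ← Finset.card_product]
    refine le_trans (le_of_eq ?_) (Nat.le_add_of_sub_le Finset.pred_card_le_card_erase)
    refine (Finset.card_image_of_injOn ?_).symm
    rintro ⟨y, d⟩ hp ⟨y', d'⟩ hp' he
    simp only [Finset.mem_coe, Finset.mem_product, hBad, hQs, hDs, Finset.mem_filter,
      Finset.mem_univ, true_and] at hp hp'
    have he' : y'⁻¹ * y = d' * d⁻¹ := by
      have h0 : y * d = y' * d' := he
      calc y'⁻¹ * y = y'⁻¹ * (y * d) * d⁻¹ := by group
        _ = y'⁻¹ * (y' * d') * d⁻¹ := by rw [h0]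
        _ = _ := by group
    have h1 := M.ls.eq_one_of_pel (mul_mem (inv_mem hp'.1.1) hp.1.1)
      (he' ▸ PEl.of_isPGroup M.ls.D_isPGroup (mul_mem hp'.2 (inv_mem hp.2)))
    obtain rfl := inv_mul_eq_one.1 h1
    simp_all
  have hM : ∀ x ∈ M0, x ≠ 1 ∧ x ∈ CQ ∧
      ∃ P' : Sylow q G, P' ≠ Q ∧ x ∈ centralizer ((P' : Subgroup G) : Set G) := by
    intro x hx
    rw [hM0, Finset.mem_erase, Finset.mem_image] at hx
    obtain ⟨hx1, ⟨y, d⟩, hp, rfl⟩ := hx
    simp only [Finset.mem_product, hBad, hQs, hDs, Finset.mem_filter, Finset.mem_univ,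
      true_and] at hp
    obtain ⟨⟨hy, w, hw, hwC, hwy⟩, hd⟩ := hp
    haveI := HY.comm_odd R Q
    have hmem : y * d ∈ CQ :=
      mul_mem (le_centralizer (Q : Subgroup G) hy) ((M.ls.memD d).1 hd).1
    refine ⟨hx1, hmem, w • Q, fun hwQ => ?_, ?_⟩
    · rw [Sylow.smul_eq_iff_mem_normalizer] at hwQ
      apply hwC
      refine mem_centralizer_iff.2 fun a ha => ?_
      have h1 : w * a * w⁻¹ * a⁻¹ ∈ (Q : Subgroup G) :=
        mul_mem ((mem_normalizer_iff.1 hwQ a).1 ha) (inv_mem ha)
      have h2 : w * a * w⁻¹ * a⁻¹ ∈ W := by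
        rw [mul_assoc, mul_assoc, ← mul_assoc a]
        exact mul_mem (mem_inf.1 hw).1
          ((mem_normalizer_iff.1 (M.core2_norm (M.Q_le ha)) _).1 (inv_mem (mem_inf.1 hw).1))
      have h3 := M.ls.eq_one_of_pel h1 (PEl.of_isPGroup M.core2_isPGroup h2)
      symm
      calc w * a = w * a * w⁻¹ * a⁻¹ * (a * w) := by group
        _ = a * w := by rw [h3, one_mul]
    · have hwd : d * w = w * d :=
        mem_centralizer_iff.1 (mem_inf.1 hw).2 d (M.D_le_core2 hd)
      have hfix : w * (y * d) * w⁻¹ = y * d := by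
        calc w * (y * d) * w⁻¹ = y * (w * d) * w⁻¹ := by rw [← mul_assoc, hwy, mul_assoc y]
          _ = y * (d * w) * w⁻¹ := by rw [hwd]
          _ = y * d := by group
      have := (mem_centralizer_smul Q w (y * d)).2 hmem
      rwa [hfix] at this
  -- the count
  have hcnt := two_mul_reg_le_of_shared Q M0 hM
  have hsum := HY.sum_reg_three
  rw [R.pi, Finset.sum_insert (by simp [R.q2.symm, R.r2.symm]),
    Finset.sum_insert (by simp [R.qr]), Finset.sum_singleton] at hsum
  have hr' := HY.two_mul_reg_le R.mem_r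
  have h2' : (ClassCover.regSet (G := G) 2).ncard * kk (T : Subgroup G) ≤ Nat.card G :=
    ncard_reg_mul_le T
  have hG : Nat.card G = 2 * (Nat.card Q * Nat.card D) *
      (normalizer ((Q : Subgroup G) : Set G)).index := by
    rw [← M.ls.card_C, ← M.ls.card_N, card_mul_index]
  rw [M.ls.card_C] at hcnt
  have hn0 : 0 < (normalizer ((Q : Subgroup G) : Set G)).index :=
    Nat.pos_of_ne_zero index_ne_zero_of_finite
  have hB0 : 0 < Bad.card := Finset.card_pos.2 ⟨1, hone⟩
  have hD0 : 0 < Nat.card D := Nat.card_pos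
  exact fibre_arith hG hsum h2' hr' hcnt hM0c hQle hrange hn0 hB0 hD0 Nat.card_pos

end LH

end Cfsg.Agent.TwoPrimes
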