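import Cfsg.Agent.Lib.TwoPrimes.LocalTwo

/-!
The centralizer of an involution of type `q` normalized by the Sylow `q`-subgroup.
-/

set_option autoImplicit false
set_option linter.style.haveILetI false
set_option linter.unusedSectionVars false

namespace Cfsg.Agent.TwoPrimes

open Subgroup ThreeSizes

universe u

variable {G : Type u} [Group G] [Finite G] {q r : ℕ} [Fact q.Prime] [Fact r.Prime] {Q : Sylow q G}
  {D : Subgroup G} {s : G}

namespace LS

variable (L : LS G q r Q D s)

include L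

theorem Q_ne : ∃ y ∈ (Q : Subgroup G), y ≠ 1 := by
  by_contra hcon
  push Not at hcon
  have h := Q.card_eq_multiplicity
  rw [(eq_bot_iff_forall _).2 hcon, card_bot] at h
  exact (one_lt_pow₀ L.primes.hq.one_lt (L.primes.hq.factorization_pos_of_dvd Nat.card_pos.ne'
    (Nat.dvd_of_mem_primeFactors L.primes.mem_q)).ne').ne h

theorem odd_Q {y : G} (hy : y ∈ (Q : Subgroup G)) : Odd (orderOf y) :=
  odd_orderOf_of_pel L.primes.hq L.primes.q2 (PEl.of_isPGroup Q.isPGroup' hy)

theorem eq_one_of_pel {y : G} (hy : y ∈ (Q : Subgroup G)) (h2 : PEl 2 y) : y = 1 :=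
  h2.eq_one Nat.prime_two L.primes.hq L.primes.q2.symm (PEl.of_isPGroup Q.isPGroup' hy)

theorem D_isPGroup : IsPGroup 2 D := PEl.isPGroup_of_forall fun x hx => ((L.memD x).1 hx).2

theorem comm_QD {y d : G} (hy : y ∈ (Q : Subgroup G)) (hd : d ∈ D) : y * d = d * y :=
  mem_centralizer_iff.1 ((L.memD d).1 hd).1 y hy

theorem normalizer_le_normalizer_D :
    normalizer ((Q : Subgroup G) : Set G) ≤ normalizer (D : Set G) := by
  intro g hg
  have h1 : ∀ g ∈ normalizer ((Q : Subgroup G) : Set G), ∀ a ∈ D, g * a * g⁻¹ ∈ D := fun g hg a ha =>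
    (L.memD _).2 ⟨normalizer_mem_centralizer hg ((L.memD a).1 ha).1, ((L.memD a).1 ha).2.conj g⟩
  refine mem_normalizer_iff.2 fun a => ⟨h1 g hg a, fun ha => ?_⟩
  have := h1 _ (inv_mem hg) _ ha
  simpa [mul_assoc] using this

theorem s_not_comm {y : G} (hy : y ∈ (Q : Subgroup G)) (hy1 : y ≠ 1) : s * y ≠ y * s := by
  intro h
  have h1 := L.s_inv y hy
  rw [h, mul_inv_cancel_right] at h1
  exact hy1 (L.eq_one_of_pel hy ⟨1, by rw [pow_one, pow_two]; nth_rw 2 [h1]; rw [mul_inv_cancel]⟩)

end LS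

/-- The largest normal `2`-subgroup of the centralizer of `e`. -/
noncomputable def core2 (e : G) : Subgroup G := (Cfsg.pCore 2 (cent e)).map (cent e).subtype

/-- An involution of `D` centralized by `s`, with a Sylow subgroup of its centralizer. -/
structure LH (G : Type u) [Group G] [Finite G] (q r : ℕ) [Fact q.Prime] (Q : Sylow q G)
    (D : Subgroup G) (s e : G) (T : Sylow 2 G) : Prop where
  ls : LS G q r Q D s
  ord : orderOf e = 2
  mem : e ∈ D
  comm_s : Commute e s
  comm_D : ∀ d ∈ D, Commute e d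
  sylow : ∀ K : Subgroup G, IsPGroup 2 K → K ≤ cent e → (T : Subgroup G) ⊓ cent e ≤ K →
    K = (T : Subgroup G) ⊓ cent e
  D_le_T : D ≤ (T : Subgroup G)
  s_mem_T : s ∈ (T : Subgroup G)

namespace LH

variable {e : G} {T : Sylow 2 G} (M : LH G q r Q D s e T)

include M

theorem e_ne : e ≠ 1 := ne_one_of_orderOf Nat.prime_two M.ord

theorem e_pel : PEl 2 e := ((M.ls.memD e).1 M.mem).2

theorem typ_e : Typ q e := typ_of_mem_centralizer Q ((M.ls.memD e).1 M.mem).1

theorem Q_le : (Q : Subgroup G) ≤ cent e := fun _ hy =>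
  mem_cent.2 (mem_centralizer_iff.1 ((M.ls.memD e).1 M.mem).1 _ hy)

theorem D_le : D ≤ cent e := fun d hd => mem_cent.2 (M.comm_D d hd).eq.symm

theorem s_mem_cent : s ∈ cent e := mem_cent.2 M.comm_s.eq.symm

theorem centralizer_le : centralizer ((Q : Subgroup G) : Set G) ≤ cent e := by
  intro x hx
  obtain ⟨a, ha, d, hd, rfl⟩ := M.ls.decomp x hx
  exact mul_mem (M.Q_le ha) (M.D_le hd)

theorem normalizer_le : normalizer ((Q : Subgroup G) : Set G) ≤ cent e := by
  intro x hx
  rcases M.ls.memN x hx with h | h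
  · exact M.centralizer_le h
  · have := mul_mem (M.centralizer_le h) M.s_mem_cent
    rwa [inv_mul_cancel_right] at this

theorem primes_cent {l : ℕ} (hl : l.Prime) (hd : l ∣ Nat.card (cent e)) : l = 2 ∨ l = q := by
  rcases M.ls.primes.cases hl (hd.trans (card_subgroup_dvd_card _)) with h | h | h
  · exact Or.inl h
  · exact Or.inr h
  · exfalso
    subst h
    obtain ⟨b, hb⟩ := exists_prime_orderOf_dvd_card' l hd
    rw [← Subgroup.orderOf_coe] at hb
    have hbp := pel_of_orderOf (n := 1) (by rw [hb, pow_one] : orderOf (b : G) = l ^ 1)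
    exact M.ls.primes.qr (M.ls.hyp.typ_commute (mem_cent.1 b.2).symm Nat.prime_two hl
      M.ls.primes.r2.symm M.e_pel hbp M.e_ne (ne_one_of_orderOf hl hb) M.ls.primes.mem_q
      M.ls.primes.mem_r M.typ_e (M.ls.hyp.typ_pel' M.ls.primes M.ls.primes.r2 hbp))

theorem cent_solvable : Group.IsSolvable (cent e) := by
  have hprod := Nat.prod_primeFactors_pow_factorization (Nat.card_pos (α := cent e)).ne'
  refine Char.isSolvable_of_card_pq 2 q Nat.prime_two M.ls.primes.hq _ _ rfl
    ⟨(Nat.card (cent e)).factorization 2, (Nat.card (cent e)).factorization q, ?_⟩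
  conv_lhs => rw [hprod]
  rw [Finset.prod_subset (s₂ := {2, q}) (f := fun p => p ^ (Nat.card (cent e)).factorization p) ?_ ?_,
    Finset.prod_pair M.ls.primes.q2.symm]
  · intro l hl
    rw [Nat.mem_primeFactors] at hl
    simpa using M.primes_cent hl.1 hl.2.1
  · intro l hl hn
    rw [show (Nat.card (cent e)).factorization l = 0 from Finsupp.notMem_support_iff.1 hn, pow_zero]

theorem core2_le : core2 e ≤ cent e := map_subtype_le _

theorem core2_isPGroup : IsPGroup 2 (core2 e) := by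
  haveI : Fact (Nat.Prime 2) := ⟨Nat.prime_two⟩
  exact (LEBasic.pCore_isPGroup).map _

theorem core2_norm : cent e ≤ normalizer (core2 e : Set G) := by
  haveI : ((core2 e).subgroupOf (cent e)).Normal := by
    rw [core2, subgroupOf, comap_map_eq_self_of_injective (cent e).subtype_injective]
    exact Cfsg.pCore_normal 2 _
  exact normal_subgroupOf_iff_le_normalizer M.core2_le |>.1 inferInstance

theorem core2_le_T : core2 e ≤ (T : Subgroup G) := by
  have hn : (T : Subgroup G) ⊓ cent e ≤ normalizer (core2 e : Set G) :=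
    inf_le_right.trans M.core2_norm
  have h := M.sylow (core2 e ⊔ ((T : Subgroup G) ⊓ cent e))
    (IsPGroup.to_sup_of_normal_left' M.core2_isPGroup (T.isPGroup'.to_le inf_le_left) hn)
    (sup_le M.core2_le inf_le_right) le_sup_right
  exact (le_sup_left.trans h.le).trans inf_le_left

/-- The image of `Q` is the Fitting subgroup of the quotient by the core. -/
theorem D_le_core2_and :
    D ≤ core2 e ∧ ∀ x ∈ cent e, ∃ w ∈ core2 e, ∃ n ∈ normalizer ((Q : Subgroup G) : Set G),
      x = w * n := by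
  classical
  haveI : Fact (Nat.Prime 2) := ⟨Nat.prime_two⟩
  haveI := M.cent_solvable
  set H := cent e with hH
  set W' := Cfsg.pCore 2 H with hW'
  haveI : W'.Normal := Cfsg.pCore_normal 2 _
  set π := QuotientGroup.mk' W' with hπ
  have hbar : Cfsg.pPrimeCore q (H ⧸ W') = ⊥ := by
    rw [eq_bot_iff]
    refine sSup_le fun K hK => ?_
    rw [← LEBasic.pCore_quotient_pCore (p := 2) (G := H)]
    refine LEBasic.le_pCore hK.1 (IsPGroup.of_card (n := (Nat.card K).primeFactorsList.length) ?_)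
    refine Nat.eq_prime_pow_of_unique_prime_dvd Nat.card_pos.ne' fun {d} hd hdd => ?_
    rcases M.primes_cent hd ((hdd.trans (card_subgroup_dvd_card _)).trans
      (card_quotient_dvd_card W')) with h | h
    · exact h
    · subst h
      exact absurd (Nat.eq_one_of_dvd_coprimes hK.2 hdd dvd_rfl) hd.one_lt.ne'
  haveI : Group.IsSolvable (H ⧸ W') := by infer_instance
  set F := Cfsg.pCore q (H ⧸ W') with hF
  have hCF := FittingCores.centralizer_pCore_le (G := H ⧸ W') M.ls.primes.hq hbar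
  set Q' := Q.subtype M.Q_le with hQ'
  have hQ'c : (Q' : Subgroup H) = (Q : Subgroup G).subgroupOf H := Sylow.coe_subtype ..
  set Qbar := (Q' : Subgroup H).map π with hQbar
  set PQ := Q'.mapSurjective (f := π) (QuotientGroup.mk'_surjective W')
  have hPQ : (PQ : Subgroup (H ⧸ W')) = Qbar := Sylow.coe_mapSurjective ..
  have hFQ : F ≤ Qbar := hPQ ▸ LEBasic.pCore_le_sylow PQ
  haveI := M.ls.hyp.comm_odd M.ls.primes Q
  have hQcomm : ∀ a ∈ Qbar, ∀ b ∈ Qbar, a * b = b * a := by
    rintro _ ⟨a, ha, rfl⟩ _ ⟨b, hb, rfl⟩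
    rw [← map_mul, ← map_mul]
    congr 1
    apply Subtype.ext
    show (a : G) * b = b * a
    exact congrArg Subtype.val (mul_comm'
      (⟨_, mem_subgroupOf.1 (hQ'c.le ha)⟩ : (Q : Subgroup G)) ⟨_, mem_subgroupOf.1 (hQ'c.le hb)⟩)
  have hQF : Qbar ≤ F := fun a ha => hCF (mem_centralizer_iff.2 fun b hb =>
    hQcomm b (hFQ hb) a ha)
  have hQbarF : Qbar = F := le_antisymm hQF hFQ
  refine ⟨fun d hd => ?_, fun x hx => ?_⟩
  · set d' : H := ⟨d, M.D_le hd⟩ with hd'
    have h1 : π d' ∈ F := hCF (mem_centralizer_iff.2 fun b hb => by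
      obtain ⟨a, ha, rfl⟩ := hFQ hb
      rw [← map_mul, ← map_mul]
      congr 1
      exact Subtype.ext (M.ls.comm_QD (mem_subgroupOf.1 (hQ'c.le ha)) hd))
    have h2 : PEl 2 (π d') :=
      (((M.ls.memD d).1 hd).2.restrict (x := d')).map π
    have h3 : π d' = 1 := h2.eq_one Nat.prime_two M.ls.primes.hq M.ls.primes.q2.symm
      (PEl.of_isPGroup LEBasic.pCore_isPGroup h1)
    exact ⟨d', (QuotientGroup.eq_one_iff _).1 h3, rfl⟩
  · set x' : H := ⟨x, hx⟩
    -- the Frattini argument
    set K := Qbar.comap π with hK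
    haveI : Qbar.Normal := hQbarF ▸ Cfsg.pCore_normal q _
    haveI : K.Normal := inferInstanceAs (Qbar.comap π).Normal
    have hQK : (Q' : Subgroup H) ≤ K := le_comap_map _ _
    have htop : normalizer ((Q' : Subgroup H) : Set H) ⊔ K = ⊤ :=
      Sylow.normalizer_sup_eq_top' Q' hQK
    have hKle : K ≤ W' ⊔ (Q' : Subgroup H) := by
      rw [hK, hQbar, comap_map_eq, QuotientGroup.ker_mk', sup_comm]
    have htop' : normalizer ((Q' : Subgroup H) : Set H) ⊔ W' = ⊤ := by
      rw [eq_top_iff, ← htop]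
      exact sup_le le_sup_left
        (hKle.trans (sup_le le_sup_right ((le_normalizer).trans le_sup_left)))
    have hxm : x' ∈ (W' ⊔ normalizer ((Q' : Subgroup H) : Set H) : Subgroup H) := by
      rw [sup_comm, htop']
      trivial
    obtain ⟨w, hw, n, hn, hwn⟩ := mem_sup_of_normal_left.1 hxm
    refine ⟨w, ⟨w, hw, rfl⟩, n, ?_, (congrArg Subtype.val hwn).symm⟩
    rw [hQ'c] at hn
    rw [mem_normalizer_iff]
    intro y
    constructor
    · intro hy
      have := (mem_normalizer_iff.1 hn ⟨y, M.Q_le hy⟩).1 (mem_subgroupOf.2 hy)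
      simpa [mem_subgroupOf] using this
    · intro hy
      have hy' : y ∈ H := by
        have := mul_mem (mul_mem (inv_mem n.2) (M.Q_le hy)) n.2
        simpa [mul_assoc] using this
      exact (mem_normalizer_iff.1 hn ⟨y, hy'⟩).2 (mem_subgroupOf.2 (by simpa using hy))

theorem D_le_core2 : D ≤ core2 e := M.D_le_core2_and.1

theorem s_not_core2 : s ∉ core2 e := by
  intro hs
  obtain ⟨y, hy, hy1⟩ := M.ls.Q_ne
  have h1 : y * s * y⁻¹ ∈ core2 e :=
    (mem_normalizer_iff.1 (M.core2_norm (M.Q_le hy)) s).1 hs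
  have h2 : y * s * y⁻¹ * s⁻¹ = y * y := by
    have := M.ls.s_inv y⁻¹ (inv_mem hy)
    rw [inv_inv] at this
    calc y * s * y⁻¹ * s⁻¹ = y * (s * y⁻¹ * s⁻¹) := by group
      _ = y * y := by rw [this]
  have h3 : y * y ∈ core2 e := h2 ▸ mul_mem h1 (inv_mem hs)
  have h4 : y * y = 1 :=
    M.ls.eq_one_of_pel (mul_mem hy hy) (PEl.of_isPGroup M.core2_isPGroup h3)
  exact hy1 (M.ls.eq_one_of_pel hy ⟨1, by rw [pow_one, pow_two, h4]⟩)

/-- The Sylow subgroup of the centralizer is `W ∪ W s`. -/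
theorem mem_U {x : G} (hx : x ∈ (T : Subgroup G)) (hxe : x ∈ cent e) :
    x ∈ core2 e ∨ x * s⁻¹ ∈ core2 e := by
  obtain ⟨w, hw, n, hn, rfl⟩ := M.D_le_core2_and.2 x hxe
  have hwT := M.core2_le_T hw
  have hn' : n ∈ (T : Subgroup G) := by
    have := mul_mem (inv_mem hwT) hx
    rwa [inv_mul_cancel_left] at this
  rcases M.ls.memN n hn with h | h
  · left
    obtain ⟨a, ha, d, hd, rfl⟩ := M.ls.decomp n h
    have ha' : a ∈ (T : Subgroup G) := by
      have := mul_mem hn' (inv_mem (M.D_le_T hd))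
      rwa [mul_inv_cancel_right] at this
    rw [M.ls.eq_one_of_pel ha (PEl.of_isPGroup T.isPGroup' ha'), one_mul]
    exact mul_mem hw (M.D_le_core2 hd)
  · right
    obtain ⟨a, ha, d, hd, he⟩ := M.ls.decomp (n * s⁻¹) h
    have ha' : a ∈ (T : Subgroup G) := by
      have h1 : n * s⁻¹ ∈ (T : Subgroup G) := mul_mem hn' (inv_mem M.s_mem_T)
      rw [he] at h1
      have := mul_mem h1 (inv_mem (M.D_le_T hd))
      rwa [mul_inv_cancel_right] at this
    rw [mul_assoc, he, M.ls.eq_one_of_pel ha (PEl.of_isPGroup T.isPGroup' ha'), one_mul]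
    exact mul_mem hw (M.D_le_core2 hd)

theorem centralizer_T_le_cent : centralizer ((T : Subgroup G) : Set G) ≤ cent e := fun _ hz =>
  mem_cent.2 (mem_centralizer_iff.1 hz e (M.D_le_T M.mem)).symm

/-- A central element of the Sylow subgroup outside the core forces `C(e) = N(Q)`. -/
theorem outside {z : G} (hz : z ∈ centralizer ((T : Subgroup G) : Set G)) (hzW : z ∉ core2 e) :
    cent e = normalizer ((Q : Subgroup G) : Set G) := by
  have hzT : z ∈ (T : Subgroup G) := M.ls.hyp.centralizer_sylow_le M.ls.primes T hz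
  have hze := M.centralizer_T_le_cent hz
  set W := core2 e with hW
  set w := z * s⁻¹ with hw
  have hwW : w ∈ W := (M.mem_U hzT hze).resolve_left hzW
  suffices hQW : ∀ y ∈ (Q : Subgroup G), ∀ v ∈ W, y * v = v * y by
    have hWD : W ≤ D := fun v hv => (M.ls.memD v).2
      ⟨mem_centralizer_iff.2 fun y hy => hQW y hy v hv, PEl.of_isPGroup M.core2_isPGroup hv⟩
    refine le_antisymm (fun x hx => ?_) M.normalizer_le
    obtain ⟨v, hv, n, hn, rfl⟩ := M.D_le_core2_and.2 x hx
    exact mul_mem (centralizer_le_normalizer' _ ((M.ls.memD v).1 (hWD hv)).1) hn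
  intro y hy v₀ hv₀
  have hyN : y ∈ normalizer (W : Set G) := M.core2_norm (M.Q_le hy)
  set c := z * (y * z * y⁻¹) with hc
  have hcW : ∀ v ∈ W, c * v = v * c := by
    intro v hv
    have h1 : Commute z v := (mem_centralizer_iff.1 hz v (M.core2_le_T hv)).symm
    have hv' : y⁻¹ * v * y ∈ W := by
      have := (mem_normalizer_iff.1 (inv_mem hyN) v).1 hv
      rwa [inv_inv] at this
    have h2 : Commute (y * z * y⁻¹) v := by
      have h3 : Commute z (y⁻¹ * v * y) :=
        (mem_centralizer_iff.1 hz _ (M.core2_le_T hv')).symm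
      have := h3.map (MulAut.conj y).toMonoidHom
      simp only [MulEquiv.coe_toMonoidHom, MulAut.conj_apply] at this
      rwa [show y * (y⁻¹ * v * y) * y⁻¹ = v by group] at this
    exact (h1.mul_left h2).eq
  have hsy : s * y⁻¹ = y * s := by
    have h := M.ls.s_inv y⁻¹ (inv_mem hy)
    rw [inv_inv] at h
    calc s * y⁻¹ = s * y⁻¹ * s⁻¹ * s := by group
      _ = y * s := by rw [h]
  have hsy2 : s * y = y⁻¹ * s := by
    have h := M.ls.s_inv y hy
    calc s * y = s * y * s⁻¹ * s := by group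
      _ = y⁻¹ * s := by rw [h]
  set g := y⁻¹ * y⁻¹ with hg
  have hgQ : g ∈ (Q : Subgroup G) := mul_mem (inv_mem hy) (inv_mem hy)
  set w'' := w * (s * (y * w * y⁻¹) * s⁻¹) * (s * s) with hw''
  have hw''W : w'' ∈ W := mul_mem (mul_mem hwW ((mem_normalizer_iff.1 (M.core2_norm M.s_mem_cent) _).1
    ((mem_normalizer_iff.1 hyN w).1 hwW))) (M.D_le_core2 M.ls.s_sq)
  have hcw : c = w'' * g := by
    have hzw : z = w * s := by rw [hw, inv_mul_cancel_right]
    have h2 : g * (s * s) = (s * s) * g := M.ls.comm_QD hgQ M.ls.s_sq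
    have hsyy : s * (y * y) = g * s := by
      rw [← mul_assoc, hsy2, mul_assoc, hsy2, ← mul_assoc, hg]
    calc c = w * s * (y * w * (s * y⁻¹)) := by rw [hc, hzw]; group
      _ = w * s * (y * w * (y * s)) := by rw [hsy]
      _ = w * (s * (y * w * y⁻¹) * s⁻¹) * (s * (y * y)) * s := by group
      _ = w * (s * (y * w * y⁻¹) * s⁻¹) * (g * s) * s := by rw [hsyy]
      _ = w * (s * (y * w * y⁻¹) * s⁻¹) * (g * (s * s)) := by group
      _ = w * (s * (y * w * y⁻¹) * s⁻¹) * ((s * s) * g) := by rw [h2]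
      _ = w'' * g := by rw [hw'']; group
  have hwg : Commute w'' g := by
    have := hcW w'' hw''W
    rw [hcw, mul_assoc] at this
    exact (mul_left_cancel this).symm
  have hgodd := M.ls.odd_Q hgQ
  obtain ⟨k, hk⟩ := PEl.of_isPGroup M.core2_isPGroup hw''W
  have hpow : c ^ orderOf g = w'' ^ orderOf g := by
    rw [hcw, hwg.mul_pow, pow_orderOf_eq_one, mul_one]
  have hco : (orderOf w'').Coprime (orderOf g) :=
    (Nat.Coprime.coprime_dvd_left (orderOf_dvd_of_pow_eq_one hk)
      ((Nat.coprime_two_left.2 hgodd).pow_left k))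
  obtain ⟨m, hm⟩ := exists_pow_eq_self_of_coprime (n := orderOf g) hco.symm
  have hgW : Commute g v₀ := by
    have h1 : Commute (w'' ^ orderOf g) v₀ := by
      rw [← hpow]
      exact (show Commute c v₀ from hcW v₀ hv₀).pow_left _
    have h2 : Commute w'' v₀ := hm ▸ h1.pow_left m
    have h3 : g = w''⁻¹ * c := by rw [hcw, inv_mul_cancel_left]
    rw [h3]
    exact h2.inv_left.mul_left (hcW v₀ hv₀)
  refine commute_of_sq (M.ls.odd_Q hy) ?_
  have := hgW.inv_left
  rwa [hg, mul_inv_rev, inv_inv] at this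

end LH

end Cfsg.Agent.TwoPrimes
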