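import Cfsg.Agent.Lib.TwoPrimes.Nonab
import Cfsg.Agent.Lib.Solvable.Fitting
import Cfsg.Agent.Lib.Solvable.Structure
import Cfsg.Agent.Lib.LocalEven.Basic

/-!
A Sylow `q`-subgroup of index two in its normalizer that commutes with an involution: local structure.
-/

set_option autoImplicit false
set_option linter.style.haveILetI false
set_option linter.unusedSectionVars false

namespace Cfsg.Agent.TwoPrimes

open Subgroup ThreeSizes

universe u

variable {G : Type u} [Group G] [Finite G]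

/-- The setting: `Q` is a Sylow `q`-subgroup, `N = N(Q)`, `C = C(Q)`, `|N : C| = 2`, `D` the
`2`-part of `C`, and `s` a `2`-element inverting `Q`. -/
structure LS (G : Type u) [Group G] [Finite G] (q r : ℕ) [Fact q.Prime] (Q : Sylow q G)
    (D : Subgroup G) (s : G) : Prop where
  hyp : Hyp G
  primes : Primes G q r
  memD : ∀ x, x ∈ D ↔ x ∈ centralizer ((Q : Subgroup G) : Set G) ∧ PEl 2 x
  decomp : ∀ x ∈ centralizer ((Q : Subgroup G) : Set G),
    ∃ a ∈ (Q : Subgroup G), ∃ d ∈ D, x = a * d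
  D_ne : D ≠ ⊥
  memN : ∀ x ∈ normalizer ((Q : Subgroup G) : Set G),
    x ∈ centralizer ((Q : Subgroup G) : Set G) ∨ x * s⁻¹ ∈ centralizer ((Q : Subgroup G) : Set G)
  s_mem : s ∈ normalizer ((Q : Subgroup G) : Set G)
  s_pel : PEl 2 s
  s_sq : s * s ∈ D
  s_inv : ∀ a ∈ (Q : Subgroup G), s * a * s⁻¹ = a⁻¹
  card_N : Nat.card (normalizer ((Q : Subgroup G) : Set G)) =
    2 * Nat.card (centralizer ((Q : Subgroup G) : Set G))
  card_C : Nat.card (centralizer ((Q : Subgroup G) : Set G)) = Nat.card Q * Nat.card D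

theorem normalizer_mem_centralizer {H : Subgroup G} {g a : G} (hg : g ∈ normalizer (H : Set G))
    (ha : a ∈ centralizer (H : Set G)) : g * a * g⁻¹ ∈ centralizer (H : Set G) := by
  rw [mem_centralizer_iff] at ha ⊢
  intro y hy
  have hy' : g⁻¹ * y * g ∈ (H : Set G) := by
    have := (mem_normalizer_iff.1 (inv_mem hg) y).1 hy
    rw [inv_inv] at this
    exact this
  have := ha _ hy'
  calc y * (g * a * g⁻¹) = g * (g⁻¹ * y * g * a) * g⁻¹ := by group
    _ = g * (a * (g⁻¹ * y * g)) * g⁻¹ := by rw [this]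
    _ = g * a * g⁻¹ * y := by group

theorem exists_ls (H : Hyp G) {q r : ℕ} [Fact q.Prime] [Fact r.Prime] (R : Primes G q r)
    (Q : Sylow q G) (hk : kk (Q : Subgroup G) = 2) {u : G} (hu : orderOf u = 2)
    (hQu : (Q : Subgroup G) ≤ cent u) : ∃ D s, LS G q r Q D s := by
  classical
  haveI : Fact (Nat.Prime 2) := ⟨Nat.prime_two⟩
  haveI := H.simple
  haveI hQab := H.comm_odd R Q
  set C := centralizer ((Q : Subgroup G) : Set G) with hC
  set N := normalizer ((Q : Subgroup G) : Set G) with hN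
  have hQC : (Q : Subgroup G) ≤ C := le_centralizer _
  have hCN : C ≤ N := centralizer_le_normalizer' _
  -- the orders in `C`
  have hCprimes : ∀ l : ℕ, l.Prime → l ∣ Nat.card C → l = 2 ∨ l = q := by
    intro l hl hd
    rcases R.cases hl (hd.trans (card_subgroup_dvd_card _)) with e | e | e
    · exact Or.inl e
    · exact Or.inr e
    · exfalso
      subst e
      obtain ⟨b, hb⟩ := exists_prime_orderOf_dvd_card' l hd
      rw [← Subgroup.orderOf_coe] at hb
      exact R.qr (H.typ_unique (ne_one_of_orderOf hl hb) R.mem_q R.mem_r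
        (typ_of_mem_centralizer Q b.2)
        (H.typ_pel' R R.r2 (pel_of_orderOf (n := 1) (by rw [hb, pow_one]))))
  -- the normal complement of `Q` in `C`
  set Q' := Q.subtype hQC with hQ'
  have hQ'c : (Q' : Subgroup C) = (Q : Subgroup G).subgroupOf C := Sylow.coe_subtype ..
  haveI : IsMulCommutative (Q' : Subgroup C) := by
    rw [hQ'c]
    refine ⟨⟨fun a b => Subtype.ext (Subtype.ext ?_)⟩⟩
    show ((a : C) : G) * ((b : C) : G) = ((b : C) : G) * ((a : C) : G)
    exact congrArg Subtype.val (mul_comm' (⟨_, mem_subgroupOf.1 a.2⟩ : (Q : Subgroup G))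
      ⟨_, mem_subgroupOf.1 b.2⟩)
  have hle : normalizer ((Q' : Subgroup C) : Set C) ≤ centralizer ((Q' : Subgroup C) : Set C) := by
    intro g _
    rw [hQ'c, mem_centralizer_iff]
    intro y hy
    exact Subtype.ext (mem_centralizer_iff.1 g.2 y (mem_subgroupOf.1 hy))
  set K := (MonoidHom.transferSylow Q' hle).ker
  have hK := MonoidHom.ker_transferSylow_isComplement' Q' hle
  have hKp : IsPGroup 2 K := by
    refine IsPGroup.of_card (n := (Nat.card K).primeFactorsList.length) ?_
    refine Nat.eq_prime_pow_of_unique_prime_dvd Nat.card_pos.ne' fun {d} hd hdd => ?_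
    rcases hCprimes d hd (hdd.trans (card_subgroup_dvd_card _)) with e | e
    · exact e
    · subst e
      exfalso
      have h1 := hK.card_mul
      rw [Q'.card_eq_multiplicity] at h1
      exact Nat.pow_succ_factorization_not_dvd Nat.card_pos.ne' hd
        (Dvd.intro_left ((Nat.card K) / d) (by
          rw [pow_succ']; rw [← mul_assoc, Nat.div_mul_cancel hdd]; exact h1))
  set D := K.map C.subtype with hD
  have hmemD : ∀ x, x ∈ D ↔ x ∈ C ∧ PEl 2 x := by
    intro x
    constructor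
    · rintro ⟨k, hk, rfl⟩
      exact ⟨k.2, (PEl.of_isPGroup hKp hk).coe⟩
    · rintro ⟨hx, h2⟩
      refine ⟨⟨x, hx⟩, ?_, rfl⟩
      have hq' : Nat.card (C ⧸ K) = Nat.card (Q' : Subgroup C) := by
        rw [← index_eq_card, hK.symm.index_eq_card]
      have h3 : PEl q (QuotientGroup.mk' K ⟨x, hx⟩) := ⟨(Nat.card C).factorization q, by
        rw [← Q'.card_eq_multiplicity, ← hq']
        exact pow_card_eq_one'⟩
      exact (QuotientGroup.eq_one_iff _).1
        ((((h2 : PEl 2 x).restrict (x := (⟨x, hx⟩ : C))).map (QuotientGroup.mk' K)).eq_one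
          Nat.prime_two R.hq R.q2.symm h3)
  have hdecomp : ∀ x ∈ C, ∃ a ∈ (Q : Subgroup G), ∃ d ∈ D, x = a * d := by
    intro x hx
    obtain ⟨⟨a, k⟩, hak⟩ := hK.symm.2 (⟨x, hx⟩ : C)
    refine ⟨((a : C) : G), ?_, ((k : C) : G), ⟨k, k.2, rfl⟩, (congrArg Subtype.val hak).symm⟩
    exact mem_subgroupOf.1 (hQ'c.le a.2)
  have hu1 := ne_one_of_orderOf Nat.prime_two hu
  have huC : u ∈ C := mem_centralizer_iff.2 fun y hy => mem_cent.1 (hQu hy)
  have hDne : D ≠ ⊥ := fun e => hu1 (by
    have := (hmemD u).2 ⟨huC, pel_of_orderOf (n := 1) (by rw [hu, pow_one])⟩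
    rwa [e, mem_bot] at this)
  -- an element outside `C`
  have hidx : (C.subgroupOf N).index = 2 := hk
  obtain ⟨x0, hx0⟩ : ∃ x0 : N, x0 ∉ C.subgroupOf N := by
    by_contra hcon
    push Not at hcon
    rw [(eq_top_iff' _).2 hcon, index_top] at hidx
    omega
  obtain ⟨l, n, hl, hp, hnot⟩ := exists_primary_not_mem hx0
  have hl2 : l = 2 := by
    by_contra hne
    refine hnot ?_
    obtain ⟨k, hk'⟩ := hp
    obtain ⟨j, hj⟩ := (hl.odd_of_ne_two hne).pow (n := k)
    have h2 : (x0 ^ n) ^ 2 ∈ C.subgroupOf N := sq_mem_of_index_two hidx _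
    have e : x0 ^ n = ((x0 ^ n) ^ 2) ^ (j + 1) := by
      rw [← pow_mul (x0 ^ n) 2, show 2 * (j + 1) = l ^ k + 1 by omega, pow_add (x0 ^ n) (l ^ k) 1,
        hk', one_mul, pow_one]
    rw [e]
    exact pow_mem h2 _
  set s : G := ((x0 ^ n : N) : G) with hs
  have hsN : s ∈ N := (x0 ^ n).2
  have hsC : s ∉ C := fun h => hnot (mem_subgroupOf.2 h)
  have hs2 : PEl 2 s := hl2 ▸ hp.coe
  have hssC : s * s ∈ C := mem_subgroupOf.1 (mul_self_mem_of_index_two hidx (x0 ^ n))
  have hss : s * s ∈ D := (hmemD _).2 ⟨hssC, hs2.mul rfl hs2⟩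
  have hmemN : ∀ x ∈ N, x ∈ C ∨ x * s⁻¹ ∈ C := by
    intro x hx
    refine (em (x ∈ C)).imp id fun h => ?_
    have := mul_mem_iff_of_index_two (H := C.subgroupOf N) hidx (a := ⟨x, hx⟩)
      (b := ⟨s⁻¹, inv_mem hsN⟩)
    simp only [mem_subgroupOf, Subgroup.coe_mul] at this
    exact this.2 (iff_of_false h (fun h' => hsC (inv_mem_iff.1 h')))
  have hinv : ∀ a ∈ (Q : Subgroup G), s * a * s⁻¹ = a⁻¹ := by
    intro a ha
    have hb : s * a * s⁻¹ ∈ (Q : Subgroup G) := (mem_normalizer_iff.1 hsN a).1 ha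
    have hss' : (s * s) * a = a * (s * s) := (mem_centralizer_iff.1 hssC a ha).symm
    have hcomm : a * (s * a * s⁻¹) = (s * a * s⁻¹) * a :=
      congrArg Subtype.val (mul_comm' (⟨a, ha⟩ : (Q : Subgroup G)) ⟨_, hb⟩)
    set z := a * (s * a * s⁻¹) with hz
    have hzs : s * z = z * s := by
      calc s * z = (s * a * s⁻¹) * ((s * s) * a) * s⁻¹ := by rw [hz]; group
        _ = (s * a * s⁻¹) * (a * (s * s)) * s⁻¹ := by rw [hss']
        _ = ((s * a * s⁻¹) * a) * s := by group
        _ = z * s := by rw [← hcomm]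
    have hz1 : z = 1 := by
      refine OddDown.eq_one_of_central (fun hc => H.nonab ⟨⟨hc⟩⟩) Q (mul_mem ha hb)
        fun m hm => ?_
      rcases hmemN m hm with h | h
      · exact (mem_centralizer_iff.1 h z (mul_mem ha hb)).symm
      · have h' := mem_centralizer_iff.1 h z (mul_mem ha hb)
        calc m * z = (m * s⁻¹) * (s * z) := by group
          _ = (m * s⁻¹) * z * s := by rw [hzs]; group
          _ = z * (m * s⁻¹) * s := by rw [h']
          _ = z * m := by group
    exact eq_inv_of_mul_eq_one_right hz1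
  refine ⟨D, s, H, R, hmemD, hdecomp, hDne, hmemN, hsN, hs2, hss, hinv, ?_, ?_⟩
  · rw [← Subgroup.card_mul_index (C.subgroupOf N), hidx,
      Nat.card_congr (subgroupOfEquivOfLe hCN).toEquiv, mul_comm]
  · have e : Nat.card (Q' : Subgroup C) = Nat.card Q := by
      exact (congrArg (fun K : Subgroup C => Nat.card K) hQ'c).trans
        (Nat.card_congr (subgroupOfEquivOfLe hQC).toEquiv)
    rw [← hK.symm.card_mul, hD, card_map_of_injective C.subtype_injective, e]

end Cfsg.Agent.TwoPrimes
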