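import Cfsg.Agent.Lib.TwoPrimes.Reduce
import Cfsg.Agent.Lib.TwoPrimes.Almost
import Cfsg.Agent.S0494

/-!
Class sizes with at most two prime divisors.
-/

set_option autoImplicit false
set_option linter.style.haveILetI false
set_option linter.unusedSectionVars false

namespace Cfsg.Agent.TwoPrimes

open Subgroup ThreeSizes

universe u

variable {G : Type u} [Group G] [Finite G]

theorem main (h : Two G) :
    Group.IsSolvable G ∨ ∃ S : Subgroup G, S.Normal ∧ Subgroup.center G ⊓ S = ⊥ ∧
      Subgroup.center G ⊔ S = ⊤ ∧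
      (Nonempty (S ≃* alternatingGroup (Fin 5)) ∨
        Nonempty (S ≃* Matrix.ProjectiveSpecialLinearGroup (Fin 2) (GaloisField 2 3))) := by
  classical
  refine or_iff_not_imp_left.2 fun hns => ?_
  obtain ⟨L, hLc, hLne, hLp⟩ := exists_perfect_normal hns
  haveI := hLc
  haveI : Nontrivial L := (Subgroup.nontrivial_iff_ne_bot L).2 hLne
  have H : Hyp L := hyp_of_perfect (commutator_eq_top_of_perfect hLp) (h.normal L)
  set C := centralizer (L : Set G) with hC
  have hCL : C ⊓ L = ⊥ := by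
    rw [eq_bot_iff_forall]
    rintro x ⟨hxC, hxL⟩
    have hxc : (⟨x, hxL⟩ : L) ∈ center L :=
      mem_center_iff.2 fun y => Subtype.ext (mem_centralizer_iff.1 hxC y y.2)
    rw [H.center_eq_bot, mem_bot] at hxc
    exact congrArg Subtype.val hxc
  have hcomm : ∀ c ∈ C, ∀ x ∈ L, c * x = x * c := fun c hc x hx =>
    (mem_centralizer_iff.1 hc x hx).symm
  have hsplit : ∀ c ∈ C, ∀ x ∈ L, cent (c * x) ≤ cent c ⊓ cent x := by
    intro c hc x hx g hg
    have h1 : g * c * g⁻¹ * (g * x * g⁻¹) = c * x := by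
      calc g * c * g⁻¹ * (g * x * g⁻¹) = g * (c * x) * g⁻¹ := by group
        _ = c * x * g * g⁻¹ := by rw [mem_cent.1 hg]
        _ = c * x := by group
    have h2 : c⁻¹ * (g * c * g⁻¹) = x * (g * x * g⁻¹)⁻¹ := by
      calc c⁻¹ * (g * c * g⁻¹) = c⁻¹ * (g * c * g⁻¹ * (g * x * g⁻¹)) * (g * x * g⁻¹)⁻¹ := by group
        _ = c⁻¹ * (c * x) * (g * x * g⁻¹)⁻¹ := by rw [h1]
        _ = _ := by group
    have h3 : c⁻¹ * (g * c * g⁻¹) = 1 := by
      rw [← Subgroup.mem_bot, ← hCL]
      refine Subgroup.mem_inf.2 ⟨mul_mem (inv_mem hc) ((inferInstance : C.Normal).conj_mem c hc g), ?_⟩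
      rw [h2]
      exact mul_mem hx (inv_mem ((inferInstance : L.Normal).conj_mem x hx g))
    rw [h3, eq_comm, mul_inv_eq_one] at h2
    rw [inv_mul_eq_one] at h3
    refine ⟨mem_cent.2 ?_, mem_cent.2 ?_⟩
    · calc g * c = g * c * g⁻¹ * g := by group
        _ = c * g := by rw [← h3]
    · calc g * x = g * x * g⁻¹ * g := by group
        _ = x * g := by rw [← h2]
  -- the centralizer of `L` is commutative
  have hCab : ∀ c ∈ C, ∀ d ∈ C, c * d = d * c := by
    intro c hc d hd
    by_contra hne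
    have hi : (cent (⟨c, hc⟩ : C)).index ≠ 1 := by
      rw [Ne, index_cent_eq_one_iff, mem_center_iff]
      intro h'
      exact hne (congrArg Subtype.val (h' ⟨d, hd⟩)).symm
    obtain ⟨l, hl, hld⟩ := Nat.exists_prime_and_dvd hi
    haveI := Fact.mk hl
    have hlG : l ∣ (cent c).index := hld.trans (OddDown.index_cent_dvd_normal C ⟨c, hc⟩)
    obtain ⟨x, hx1, hxl⟩ : ∃ x : L, x ≠ 1 ∧ ¬ l ∣ (cent x).index := by
      by_cases hlL : l ∣ Nat.card L
      · obtain ⟨P⟩ : Nonempty (Sylow l L) := inferInstance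
        obtain ⟨x, hx, hx1⟩ := sylow_exists_ne_one hlL P
        haveI := H.all_comm l P
        exact ⟨x, hx1, typ_of_mem P hx⟩
      · obtain ⟨x, hx1⟩ := exists_ne (1 : L)
        exact ⟨x, hx1, fun hd => hlL (hd.trans (index_dvd_card _))⟩
    obtain ⟨p1, p2, hp12, hp⟩ := Finset.card_eq_two.1 (H.card_ix hx1)
    have h1 : p1 ∈ (cent x).index.primeFactors := by rw [hp]; simp
    have h2 : p2 ∈ (cent x).index.primeFactors := by rw [hp]; simp
    have hxG := OddDown.index_cent_dvd_normal L x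
    have hle := hsplit c hc (x : G) x.2
    exact h.false_of_three (c * (x : G)) hl (Nat.prime_of_mem_primeFactors h1)
      (Nat.prime_of_mem_primeFactors h2) (fun e => hxl (e ▸ Nat.dvd_of_mem_primeFactors h1))
      (fun e => hxl (e ▸ Nat.dvd_of_mem_primeFactors h2)) hp12
      (hlG.trans (index_dvd_of_le (hle.trans inf_le_left)))
      (((Nat.dvd_of_mem_primeFactors h1).trans hxG).trans (index_dvd_of_le (hle.trans inf_le_right)))
      (((Nat.dvd_of_mem_primeFactors h2).trans hxG).trans (index_dvd_of_le (hle.trans inf_le_right)))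
  -- the almost simple quotient
  set π := QuotientGroup.mk' C with hπ
  set S := L.map π with hS
  haveI : S.Normal := (inferInstance : L.Normal).map π (QuotientGroup.mk'_surjective C)
  have hinj : Function.Injective (π.subgroupMap L) := by
    rw [injective_iff_map_eq_one]
    intro x hx
    have h1 : (x : G) ∈ C := (QuotientGroup.eq_one_iff _).1 (congrArg Subtype.val hx)
    have h2 : (x : G) ∈ C ⊓ L := ⟨h1, x.2⟩
    rw [hCL, mem_bot] at h2
    exact Subtype.ext h2
  have HS : Hyp S := H.of_equiv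
    (MulEquiv.ofBijective (π.subgroupMap L) ⟨hinj, π.subgroupMap_surjective L⟩) ((h.quot C).normal S)
  have hcS : centralizer (S : Set (G ⧸ C)) = ⊥ := by
    rw [eq_bot_iff_forall]
    intro gb hgb
    obtain ⟨g, rfl⟩ := QuotientGroup.mk'_surjective C gb
    refine (QuotientGroup.eq_one_iff g).2 (mem_centralizer_iff.2 fun x hx => ?_)
    have h1 : π x * π g = π g * π x := mem_centralizer_iff.1 hgb (π x) ⟨x, hx, rfl⟩
    have h2 : x⁻¹ * (g * x * g⁻¹) ∈ C ⊓ L := by
      refine Subgroup.mem_inf.2 ⟨(QuotientGroup.eq_one_iff _).1 ?_,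
        mul_mem (inv_mem hx) ((inferInstance : L.Normal).conj_mem x hx g)⟩
      show π (x⁻¹ * (g * x * g⁻¹)) = 1
      rw [map_mul, map_mul, map_mul, map_inv, map_inv, ← h1]
      group
    rw [hCL, mem_bot, inv_mul_eq_one] at h2
    calc x * g = g * x * g⁻¹ * g := by rw [← h2]
      _ = g * x := by group
  have htop := eq_top_of_almost_simple HS hcS (h.quot C)
  have hsupCL : C ⊔ L = ⊤ := by
    rw [eq_top_iff]
    intro g _
    obtain ⟨x, hx, hxg⟩ := (htop.ge (mem_top (π g)) : π g ∈ S)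
    have : g * x⁻¹ ∈ C := (QuotientGroup.eq_one_iff _).1 (show π (g * x⁻¹) = 1 by
      rw [map_mul, map_inv, hxg, mul_inv_cancel])
    have hg : g = g * x⁻¹ * x := by group
    rw [hg]
    exact mul_mem (mem_sup_left this) (mem_sup_right hx)
  have hcen : center G = C := by
    refine le_antisymm (fun z hz => mem_centralizer_iff.2 fun x _ => mem_center_iff.1 hz x) ?_
    intro c hc
    refine mem_center_iff.2 fun g => ?_
    have hle : C ⊔ L ≤ cent c :=
      sup_le (fun d hd => mem_cent.2 (hCab d hd c hc)) fun x hx => mem_cent.2 (hcomm c hc x hx).symm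
    exact mem_cent.1 (hle (hsupCL.ge (mem_top g)))
  refine ⟨L, inferInstance, hcen ▸ hCL, hcen ▸ hsupCL, ?_⟩
  obtain ⟨f, hf, hcard, ⟨e⟩⟩ := H.classify
  haveI := H.simple
  rcases hf with rfl | rfl
  · exact Or.inl (S0494.result (by rw [hcard]; norm_num))
  · exact Or.inr ⟨e⟩

end Cfsg.Agent.TwoPrimes
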