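import Cfsg.Agent.Lib.TwoPrimes.Abel

/-!
Sylow `2`-subgroups: centres, and the case of index three.
-/

set_option autoImplicit false
set_option linter.style.haveILetI false
set_option linter.unusedSectionVars false

namespace Cfsg.Agent.TwoPrimes

open Subgroup ThreeSizes

universe u

variable {G : Type u} [Group G] [Finite G]

theorem pel_zpowers {l : ℕ} {x : G} (hx : PEl l x) : IsPGroup l (zpowers x) :=
  PEl.isPGroup_of_forall fun y hy => by
    obtain ⟨n, rfl⟩ := mem_zpowers_iff.1 hy
    obtain ⟨k, hk⟩ := hx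
    exact ⟨k, by rw [← zpow_natCast, ← zpow_mul, mul_comm, zpow_mul, zpow_natCast, hk, one_zpow]⟩

theorem pel_of_orderOf {l n : ℕ} {x : G} (h : orderOf x = l ^ n) : PEl l x :=
  ⟨n, by rw [← h, pow_orderOf_eq_one]⟩

theorem ne_one_of_orderOf {l : ℕ} (hl : l.Prime) {x : G} (h : orderOf x = l) : x ≠ 1 := fun e => by
  rw [e, orderOf_one] at h
  exact hl.one_lt.ne h

/-- A nontrivial `l`-element has a power of order `l`. -/
theorem exists_pow_orderOf {l : ℕ} (hl : l.Prime) {x : G} (hx : PEl l x) (h1 : x ≠ 1) :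
    ∃ n : ℕ, orderOf (x ^ n) = l := by
  obtain ⟨k, hk⟩ := hx
  obtain ⟨m, -, hm⟩ := (Nat.dvd_prime_pow hl).1 (orderOf_dvd_of_pow_eq_one hk)
  rcases Nat.eq_zero_or_pos m with rfl | hm0
  · rw [pow_zero, orderOf_eq_one_iff] at hm
    exact absurd hm h1
  · exact ⟨_, orderOf_pow_orderOf_div (orderOf_pos x).ne' (hm ▸ dvd_pow_self l hm0.ne')⟩

/-- An element of odd order commutes with `z` when its square does. -/
theorem commute_of_sq {y z : G} (hy : Odd (orderOf y)) (h : Commute (y * y) z) : Commute y z := by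
  obtain ⟨j, hj⟩ := hy
  have : y = (y * y) ^ (j + 1) := by
    rw [← pow_two, ← pow_mul, show 2 * (j + 1) = orderOf y + 1 by omega, pow_add, pow_orderOf_eq_one,
      one_mul, pow_one]
  rw [this]
  exact h.pow_left _

theorem odd_orderOf_of_pel {l : ℕ} (hl : l.Prime) (h2 : l ≠ 2) {y : G} (hy : PEl l y) :
    Odd (orderOf y) := by
  obtain ⟨k, hk⟩ := hy
  obtain ⟨m, -, hm⟩ := (Nat.dvd_prime_pow hl).1 (orderOf_dvd_of_pow_eq_one hk)
  rw [hm]
  exact (hl.odd_of_ne_two h2).pow

/-- A normal `p`-subgroup of `H` lies in every Sylow subgroup of `H`. -/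
theorem le_sylow_of_normal {H : Type u} [Group H] [Finite H] {p : ℕ} [Fact p.Prime] (K : Subgroup H)
    [K.Normal] (hK : IsPGroup p K) (P : Sylow p H) : K ≤ (P : Subgroup H) := by
  have h := hK.to_sup_of_normal_left P.isPGroup'
  exact (le_sup_left : K ≤ K ⊔ (P : Subgroup H)).trans (P.is_maximal' h le_sup_right).le

namespace Hyp

variable (H : Hyp G) {q r : ℕ} [Fact q.Prime] [Fact r.Prime] (R : Primes G q r)

include H R

theorem comm_of_ne_two {l : ℕ} [hl : Fact l.Prime] (h2 : l ≠ 2) (P : Sylow l G) :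
    IsMulCommutative (P : Subgroup G) := by
  by_cases hd : l ∣ Nat.card G
  · rcases R.cases hl.out hd with rfl | rfl | rfl
    · exact absurd rfl h2
    · exact H.comm_odd R P
    · exact H.comm_odd R.swap P
  · have : (P : Subgroup G) = ⊥ := by
      obtain ⟨k, hk⟩ := IsPGroup.iff_card.1 P.isPGroup'
      refine Subgroup.eq_bot_of_card_eq _ ?_
      rcases Nat.eq_zero_or_pos k with rfl | hk0
      · rw [hk, pow_zero]
      · exact absurd (((dvd_pow_self l hk0.ne').trans (dvd_of_eq hk.symm)).trans
          (card_subgroup_dvd_card _)) hd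
    rw [this]
    infer_instance

theorem typ_pel' {l : ℕ} [Fact l.Prime] (h2 : l ≠ 2) {x : G} (hx : PEl l x) : Typ l x :=
  H.typ_pel (fun P => H.comm_of_ne_two R h2 P) hx

/-- The centralizer of a `2`-element of type two. -/
theorem two_group_cent {x : G} (h1 : x ≠ 1) (hx : PEl 2 x) (ht : Typ 2 x) :
    IsPGroup 2 (cent x) := by
  haveI : Fact (Nat.Prime 2) := ⟨Nat.prime_two⟩
  exact H.isPGroup_cent (Nat.dvd_of_mem_primeFactors R.mem_two)
    (fun l _ hl P => H.comm_of_ne_two R hl P) h1 hx ht

theorem sylow_ne_bot (T : Sylow 2 G) : (T : Subgroup G) ≠ ⊥ := by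
  haveI : Fact (Nat.Prime 2) := ⟨Nat.prime_two⟩
  intro e
  have h := T.card_eq_multiplicity
  rw [e, card_bot] at h
  exact (one_lt_pow₀ one_lt_two (Nat.prime_two.factorization_pos_of_dvd Nat.card_pos.ne'
    (Nat.dvd_of_mem_primeFactors R.mem_two)).ne').ne h

/-- An element of the centre of a Sylow `2`-subgroup has that subgroup as centralizer. -/
theorem cent_central {T : Sylow 2 G} {z : G} (hz : z ∈ (T : Subgroup G)) (h1 : z ≠ 1)
    (hc : z ∈ centralizer ((T : Subgroup G) : Set G)) : cent z = (T : Subgroup G) := by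
  haveI : Fact (Nat.Prime 2) := ⟨Nat.prime_two⟩
  exact T.is_maximal' (H.two_group_cent R h1 (PEl.of_isPGroup T.isPGroup' hz)
    (typ_of_mem_centralizer T hc)) fun y hy => mem_cent.2 (mem_centralizer_iff.1 hc y hy)

theorem exists_central (T : Sylow 2 G) : ∃ z, orderOf z = 2 ∧ z ∈ (T : Subgroup G) ∧
    z ∈ centralizer ((T : Subgroup G) : Set G) := by
  haveI : Fact (Nat.Prime 2) := ⟨Nat.prime_two⟩
  haveI : Nontrivial (T : Subgroup G) := (Subgroup.nontrivial_iff_ne_bot _).2 (H.sylow_ne_bot R T)
  haveI := T.isPGroup'.center_nontrivial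
  obtain ⟨w, hw⟩ := exists_ne (1 : center (T : Subgroup G))
  have hw1 : ((w : (T : Subgroup G)) : G) ≠ 1 := fun e => hw (Subtype.ext (Subtype.ext e))
  obtain ⟨n, hn⟩ := exists_pow_orderOf Nat.prime_two
    (PEl.of_isPGroup T.isPGroup' w.1.2) hw1
  refine ⟨_, hn, pow_mem w.1.2 n, pow_mem (mem_centralizer_iff.2 fun y hy => ?_) n⟩
  exact congrArg Subtype.val (mem_center_iff.1 w.2 ⟨y, hy⟩)

/-- No element of odd order commutes with a nontrivial central element of a Sylow subgroup. -/
theorem not_commute_central {T : Sylow 2 G} {z a : G} (hz : z ∈ (T : Subgroup G)) (h1 : z ≠ 1)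
    (hc : z ∈ centralizer ((T : Subgroup G) : Set G)) (ha : Odd (orderOf a)) (ha1 : a ≠ 1)
    (hcomm : Commute a z) : False := by
  haveI : Fact (Nat.Prime 2) := ⟨Nat.prime_two⟩
  have hmem : a ∈ (T : Subgroup G) := H.cent_central R hz h1 hc ▸ mem_cent.2 hcomm
  obtain ⟨k, hk⟩ := PEl.of_isPGroup T.isPGroup' hmem
  exact ha1 (eq_one_of_coprime (((Nat.coprime_two_left).2 ha).pow_left k) hk
    (pow_orderOf_eq_one a))

theorem centralizer_sylow_le (T : Sylow 2 G) :
    centralizer ((T : Subgroup G) : Set G) ≤ (T : Subgroup G) := by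
  obtain ⟨z, hz2, hz, hc⟩ := H.exists_central R T
  exact fun y hy => (H.cent_central R hz (ne_one_of_orderOf Nat.prime_two hz2) hc).le
    (mem_cent.2 (mem_centralizer_iff.1 hy z hz).symm)

/-- If some Sylow `q`-subgroup has index three in its normalizer, no involution of type `q`
exists when no `2`-element commutes with an `r`-element. -/
theorem case_three (hnc : ∀ T : Sylow 2 G, kk (T : Subgroup G) = 4)
    (hnab : ∀ T : Sylow 2 G, ¬ IsMulCommutative (T : Subgroup G))
    (hr : ∀ a b : G, orderOf a = 2 → orderOf b = r → ¬ Commute a b)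
    {u : G} (hu : orderOf u = 2) (htu : Typ q u) (Q : Sylow q G) (hQu : (Q : Subgroup G) ≤ cent u)
    (hkQ : kk (Q : Subgroup G) = 3) : False := by
  classical
  haveI : Fact (Nat.Prime 2) := ⟨Nat.prime_two⟩
  have hu1 := ne_one_of_orderOf Nat.prime_two hu
  set C := cent u with hC
  -- a Sylow subgroup of the centralizer
  obtain ⟨U0⟩ : Nonempty (Sylow 2 C) := inferInstance
  obtain ⟨T, hT⟩ := (U0.isPGroup'.map C.subtype).exists_le_sylow
  set U := (T : Subgroup G) ⊓ C with hU
  set Z := centralizer ((T : Subgroup G) : Set G) with hZ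
  have hU0 : U.subgroupOf C = (U0 : Subgroup C) := by
    refine U0.is_maximal' ?_ fun y hy => ?_
    · exact IsPGroup.comap_subtype (T.isPGroup'.to_le inf_le_left)
    · rw [mem_subgroupOf, hU, mem_inf]
      exact ⟨hT ⟨y, hy, rfl⟩, y.2⟩
  have huC : u ∈ C := self_mem_cent u
  have huU : u ∈ U := by
    haveI : (zpowers (⟨u, huC⟩ : C)).Normal := ⟨fun a ha g => by
      obtain ⟨n, rfl⟩ := mem_zpowers_iff.1 ha
      have hcomm : Commute g (⟨u, huC⟩ : C) := Subtype.ext (mem_cent.1 g.2)
      rw [(hcomm.zpow_right n).eq, mul_inv_cancel_right]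
      exact ha⟩
    have h := le_sylow_of_normal (zpowers (⟨u, huC⟩ : C))
      (pel_zpowers (PEl.restrict (pel_of_orderOf (n := 1) (by rw [hu, pow_one])))) U0
      (mem_zpowers _)
    rwa [← hU0, mem_subgroupOf] at h
  have hZT : Z ≤ (T : Subgroup G) := H.centralizer_sylow_le R T
  have hZU : Z ≤ U := fun y hy => mem_inf.2
    ⟨hZT hy, mem_cent.2 (mem_centralizer_iff.1 hy u (mem_inf.1 huU).1).symm⟩
  have huZ : u ∉ Z := fun h => R.q2 (H.typ_unique hu1 R.mem_q R.mem_two htu
    (typ_of_mem_centralizer T h))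
  have hUT : U ≠ (T : Subgroup G) := fun e => huZ (mem_centralizer_iff.2 fun y hy =>
    mem_cent.1 ((inf_eq_left.1 e) hy))
  have hrel : Z.relIndex (T : Subgroup G) = 4 := by
    have h1 : Z.relIndex (T : Subgroup G) ∣ 4 := hnc T ▸ relIndex_dvd_relIndex_normalizer _
    obtain ⟨n, hn⟩ := T.isPGroup'.index (Z.subgroupOf (T : Subgroup G))
    have hrn : Z.relIndex (T : Subgroup G) = 2 ^ n := hn
    have hn2 : 2 ≤ n := by
      by_contra hlt
      apply hnab T
      haveI : (Z.subgroupOf (T : Subgroup G)).Normal := ⟨fun a ha g => by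
        rw [mem_subgroupOf] at ha ⊢
        have := mem_centralizer_iff.1 ha g g.2
        simp only [Subgroup.coe_mul, Subgroup.coe_inv]
        rw [this, mul_inv_cancel_right]
        exact ha⟩
      haveI : IsCyclic ((T : Subgroup G) ⧸ Z.subgroupOf (T : Subgroup G)) := by
        rcases (show n = 0 ∨ n = 1 by omega) with rfl | rfl
        · haveI : Subsingleton ((T : Subgroup G) ⧸ Z.subgroupOf (T : Subgroup G)) := by
            rw [← not_nontrivial_iff_subsingleton, ← Finite.one_lt_card_iff_nontrivial,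
              ← index_eq_card, hn]
            norm_num
          infer_instance
        · exact isCyclic_of_prime_card (p := 2) (by rw [← index_eq_card, hn, pow_one])
      refine MonoidHom.isMulCommutative_of_isCyclic_of_ker_le_center
        (QuotientGroup.mk' (Z.subgroupOf (T : Subgroup G))) ?_
      rw [QuotientGroup.ker_mk']
      intro a ha
      rw [mem_subgroupOf] at ha
      exact mem_center_iff.2 fun b => Subtype.ext (mem_centralizer_iff.1 ha b b.2)
    have h3 : 2 ^ 2 ≤ 2 ^ n := Nat.pow_le_pow_right (by norm_num) hn2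
    have := Nat.le_of_dvd (by norm_num) h1
    omega
  have hN : normalizer ((T : Subgroup G) : Set G) ≤ (T : Subgroup G) := by
    rw [← relIndex_eq_one]
    have h1 := relIndex_mul_relIndex Z (T : Subgroup G) (normalizer ((T : Subgroup G) : Set G))
      hZT le_normalizer
    have h2 : Z.relIndex (normalizer ((T : Subgroup G) : Set G)) = 4 := hnc T
    rw [hrel, h2] at h1
    omega
  have hcardT : Nat.card (T : Subgroup G) = 4 * Nat.card Z := by
    rw [← relIndex_bot_left, ← relIndex_bot_left, ← relIndex_mul_relIndex ⊥ Z _ bot_le hZT, hrel,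
      mul_comm]
  have hcardU : Nat.card U = 2 * Nat.card Z ∧ U.relIndex (T : Subgroup G) = 2 := by
    have e1 := relIndex_mul_relIndex Z U (T : Subgroup G) hZU inf_le_left
    rw [hrel] at e1
    have e2 : Z.relIndex U ≠ 1 := fun e => huZ ((relIndex_eq_one.1 e) huU)
    have e3 : U.relIndex (T : Subgroup G) ≠ 1 := fun e =>
      hUT (le_antisymm inf_le_left (relIndex_eq_one.1 e))
    have e4 : Z.relIndex U ∣ 4 := Dvd.intro _ e1
    have e5 := Nat.le_of_dvd (by norm_num) e4
    have e6 : Z.relIndex U = 2 := by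
      interval_cases h : Z.relIndex U <;> omega
    refine ⟨?_, ?_⟩
    · rw [← relIndex_bot_left, ← relIndex_bot_left, ← relIndex_mul_relIndex ⊥ Z U bot_le hZU, e6,
        mul_comm]
    · rw [e6] at e1
      omega
  -- `U` is normalized by the centralizer
  have hprimes : ∀ l : ℕ, l.Prime → l ∣ Nat.card C → l = 2 ∨ l = q := by
    intro l hl hd
    rcases R.cases hl (hd.trans (card_subgroup_dvd_card _)) with e | e | e
    · exact Or.inl e
    · exact Or.inr e
    · exfalso
      haveI := Fact.mk hl
      obtain ⟨b, hb⟩ := exists_prime_orderOf_dvd_card' l hd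
      exact hr u b hu (by rw [Subgroup.orderOf_coe, hb, e]) (mem_cent.1 b.2).symm
  have hq3 : q ≠ 3 := by
    intro e
    haveI := H.comm_odd R Q
    have h : ¬ q ∣ kk (Q : Subgroup G) := not_dvd_relIndex_of_comm Q
    exact h (by rw [hkQ]; exact dvd_of_eq e)
  have hnorm : C ≤ normalizer (U : Set G) := by
    set Q' := Q.subtype hQu with hQ'
    have hQ'c : (Q' : Subgroup C) = (Q : Subgroup G).subgroupOf C := Sylow.coe_subtype ..
    haveI := H.comm_odd R Q
    haveI : IsMulCommutative (Q' : Subgroup C) := by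
      rw [hQ'c]
      refine ⟨⟨fun a b => Subtype.ext (Subtype.ext ?_)⟩⟩
      show ((a : C) : G) * ((b : C) : G) = ((b : C) : G) * ((a : C) : G)
      exact congrArg Subtype.val (mul_comm' (⟨_, mem_subgroupOf.1 a.2⟩ : (Q : Subgroup G))
        ⟨_, mem_subgroupOf.1 b.2⟩)
    have hle : normalizer ((Q' : Subgroup C) : Set C) ≤
        centralizer ((Q' : Subgroup C) : Set C) := by
      intro g hg
      rw [hQ'c] at hg ⊢
      have hgN : (g : G) ∈ normalizer ((Q : Subgroup G) : Set G) := by
        rw [mem_normalizer_iff]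
        intro y
        constructor
        · intro hy
          have := (mem_normalizer_iff.1 hg ⟨y, hQu hy⟩).1 (mem_subgroupOf.2 hy)
          simpa [mem_subgroupOf] using this
        · intro hy
          have hy' : y ∈ C := by
            have := mul_mem (mul_mem (inv_mem g.2) (hQu hy)) g.2
            simpa [mul_assoc] using this
          exact (mem_normalizer_iff.1 hg ⟨y, hy'⟩).2 (mem_subgroupOf.2 (by simpa using hy))
      set CQ := centralizer ((Q : Subgroup G) : Set G)
      set NQ := normalizer ((Q : Subgroup G) : Set G)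
      haveI hn : (CQ.subgroupOf NQ).Normal := ⟨fun a ha b => by
        rw [mem_subgroupOf] at ha ⊢
        rw [mem_centralizer_iff] at ha ⊢
        intro y hy
        have hy' : (b : G)⁻¹ * y * b ∈ ((Q : Subgroup G) : Set G) := by
          have := (mem_normalizer_iff.1 (inv_mem b.2) y).1 hy
          rw [inv_inv] at this
          exact this
        have := ha _ hy'
        simp only [Subgroup.coe_mul, Subgroup.coe_inv]
        calc y * ((b : G) * a * (b : G)⁻¹) = b * ((b : G)⁻¹ * y * b * a) * (b : G)⁻¹ := by group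
          _ = b * (a * ((b : G)⁻¹ * y * b)) * (b : G)⁻¹ := by rw [this]
          _ = b * a * (b : G)⁻¹ * y := by group⟩
      have h3 : (g : G) ^ 3 ∈ CQ := by
        have := pow_index_mem (CQ.subgroupOf NQ) (⟨g, hgN⟩ : NQ)
        rw [show (CQ.subgroupOf NQ).index = 3 from hkQ, mem_subgroupOf] at this
        exact this
      have hco : (orderOf (g : G)).Coprime 3 := by
        rw [Nat.coprime_comm, Nat.prime_three.coprime_iff_not_dvd]
        intro hd
        rcases hprimes 3 Nat.prime_three (hd.trans (by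
          rw [Subgroup.orderOf_coe]; exact orderOf_dvd_natCard g)) with e | e
        · omega
        · exact hq3 e.symm
      obtain ⟨m, hm⟩ : ∃ m : ℕ, ((g : G) ^ 3) ^ m = g := by
        obtain ⟨m, hm⟩ := exists_pow_eq_self_of_coprime hco.symm
        exact ⟨m, hm⟩
      have hgC : (g : G) ∈ CQ := hm ▸ pow_mem h3 m
      rw [mem_centralizer_iff]
      intro y hy
      exact Subtype.ext (mem_centralizer_iff.1 hgC y (mem_subgroupOf.1 hy))
    set K := (MonoidHom.transferSylow Q' hle).ker
    have hK := MonoidHom.ker_transferSylow_isComplement' Q' hle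
    have hKp : IsPGroup 2 K := by
      refine IsPGroup.of_card (n := (Nat.card K).primeFactorsList.length) ?_
      refine Nat.eq_prime_pow_of_unique_prime_dvd Nat.card_pos.ne' fun {d} hd hdd => ?_
      rcases hprimes d hd (hdd.trans (card_subgroup_dvd_card _)) with e | e
      · exact e
      · subst e
        exfalso
        have h1 := hK.card_mul
        rw [Q'.card_eq_multiplicity] at h1
        exact Nat.pow_succ_factorization_not_dvd Nat.card_pos.ne' hd
          (Dvd.intro_left ((Nat.card K) / d) (by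
            rw [pow_succ']; rw [← mul_assoc, Nat.div_mul_cancel hdd]; exact h1))
    have hKU : K = (U0 : Subgroup C) := by
      refine le_antisymm (le_sylow_of_normal K hKp U0) ?_
      intro y hy
      have hKy := QuotientGroup.eq_one_iff (N := K) y
      apply hKy.1
      haveI : Finite (C ⧸ K) := inferInstance
      have h2 : PEl 2 (QuotientGroup.mk' K y) :=
        (PEl.of_isPGroup U0.isPGroup' hy).map (QuotientGroup.mk' K)
      have hq' : Nat.card (C ⧸ K) = Nat.card (Q' : Subgroup C) := by
        rw [← index_eq_card, hK.symm.index_eq_card]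
      have h3 : PEl q (QuotientGroup.mk' K y) := ⟨(Nat.card C).factorization q, by
        rw [← Q'.card_eq_multiplicity, ← hq']
        exact pow_card_eq_one'⟩
      exact h2.eq_one Nat.prime_two R.hq R.q2.symm h3
    haveI : (U.subgroupOf C).Normal := by
      rw [hU0, ← hKU]
      infer_instance
    exact normal_subgroupOf_iff_le_normalizer inf_le_right |>.1 inferInstance
  have hTn : (T : Subgroup G) ≤ normalizer (U : Set G) := by
    haveI := normal_of_index_eq_two (H := U.subgroupOf (T : Subgroup G)) hcardU.2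
    exact normal_subgroupOf_iff_le_normalizer inf_le_left |>.1 inferInstance
  -- two elements outside `U`
  obtain ⟨t, htT, htU⟩ := SetLike.exists_of_lt (lt_of_le_of_ne (inf_le_left : U ≤ _) hUT)
  obtain ⟨y, hyQ, hy1⟩ : ∃ y ∈ (Q : Subgroup G), y ≠ 1 := by
    by_contra hcon
    push Not at hcon
    have e : (Q : Subgroup G) = ⊥ := (eq_bot_iff_forall _).2 hcon
    have h := Q.card_eq_multiplicity
    rw [e, card_bot] at h
    exact (one_lt_pow₀ R.hq.one_lt (R.hq.factorization_pos_of_dvd Nat.card_pos.ne'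
      (Nat.dvd_of_mem_primeFactors R.mem_q)).ne').ne h
  have hyodd : Odd (orderOf y) :=
    odd_orderOf_of_pel R.hq R.q2 (PEl.of_isPGroup Q.isPGroup' hyQ)
  have hyT : y ∉ (T : Subgroup G) := fun h =>
    hy1 ((PEl.of_isPGroup T.isPGroup' h).eq_one Nat.prime_two R.hq R.q2.symm
      (PEl.of_isPGroup Q.isPGroup' hyQ))
  set t' := y * t * y⁻¹ with ht'
  have hyN := hnorm (hQu hyQ)
  have ht'U : t' ∉ U := fun h => htU ((mem_normalizer_iff.1 hyN t).2 h)
  have ht'N : t' ∈ normalizer (U : Set G) := mul_mem (mul_mem hyN (hTn htT)) (inv_mem hyN)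
  set c := t * t' with hc
  have hcN : c ∈ normalizer (U : Set G) := mul_mem (hTn htT) ht'N
  have hmulU : ∀ a b : G, a ∈ (T : Subgroup G) → b ∈ (T : Subgroup G) → a ∉ U → b ∉ U →
      a * b ∈ U := by
    intro a b ha hb ha' hb'
    have := mul_mem_iff_of_index_two (H := U.subgroupOf (T : Subgroup G)) hcardU.2
      (a := ⟨a, ha⟩) (b := ⟨b, hb⟩)
    simp only [mem_subgroupOf, Subgroup.coe_mul] at this
    exact this.2 (iff_of_false ha' hb')
  have hsplit : ∀ a ∈ (T : Subgroup G), a ∈ U ∨ t⁻¹ * a ∈ U := fun a ha =>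
    (em (a ∈ U)).imp id fun h => hmulU _ _ (inv_mem htT) ha (fun h' => htU (inv_mem_iff.1 h')) h
  have ht'2 : t' * t' ∈ U := by
    have h1 : t' * t' = y * (t * t) * y⁻¹ := by rw [ht']; group
    rw [h1]
    exact (mem_normalizer_iff.1 hyN _).1 (hmulU t t htT htT htU htU)
  -- `c` is not a `2`-element
  obtain ⟨l, hl, hl2, hlc⟩ : ∃ l : ℕ, l.Prime ∧ l ≠ 2 ∧ l ∣ orderOf c := by
    by_contra hcon
    push Not at hcon
    have hcp : PEl 2 c := by
      refine ⟨(orderOf c).primeFactorsList.length, ?_⟩
      rw [← Nat.eq_prime_pow_of_unique_prime_dvd (orderOf_pos c).ne'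
        (fun {d} hd hdd => by_contra fun hne => hcon d hd hne hdd)]
      exact pow_orderOf_eq_one c
    set V := U ⊔ zpowers c with hV
    have hVp : IsPGroup 2 V :=
      IsPGroup.to_sup_of_normal_left' (T.isPGroup'.to_le inf_le_left) (pel_zpowers hcp)
        (zpowers_le.2 hcN)
    obtain ⟨T1, hT1⟩ := hVp.exists_le_sylow
    have hVcard : Nat.card V ≤ 2 * Nat.card U := by
      refine (Nat.le_of_dvd Nat.card_pos (card_dvd_of_le hT1)).trans (le_of_eq ?_)
      rw [T1.card_eq_multiplicity, ← T.card_eq_multiplicity, hcardT, hcardU.1]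
      ring
    have hUV : U ≤ V := le_sup_left
    have hcV : c ∈ V := mem_sup_right (mem_zpowers c)
    have hc2 : c * c ∈ U := by
      have e : Nat.card U * U.relIndex V = Nat.card V := by
        rw [← relIndex_bot_left, ← relIndex_bot_left, relIndex_mul_relIndex ⊥ U V bot_le hUV]
      have hle : U.relIndex V ≤ 2 := by
        by_contra hgt
        have : 3 * Nat.card U ≤ Nat.card U * U.relIndex V := by nlinarith
        have := Nat.card_pos (α := U)
        omega
      have hne : U.relIndex V ≠ 0 := index_ne_zero_of_finite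
      rcases (show U.relIndex V = 1 ∨ U.relIndex V = 2 by omega) with e1 | e2
      · exact mul_mem (relIndex_eq_one.1 e1 hcV) (relIndex_eq_one.1 e1 hcV)
      · exact mem_subgroupOf.1
          (mul_self_mem_of_index_two (H := U.subgroupOf V) e2 ⟨c, hcV⟩)
    have hkey : t' * t * t'⁻¹ ∈ (T : Subgroup G) := by
      have e1 : t' * t * t'⁻¹ = t⁻¹ * (c * c) * (t' * t')⁻¹ := by rw [hc]; group
      rw [e1]
      exact mul_mem (mul_mem (inv_mem htT) (mem_inf.1 hc2).1) (inv_mem (mem_inf.1 ht'2).1)
    have ht'T : t' ∈ (T : Subgroup G) := by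
      apply hN
      refine mem_normalizer_iff.2 fun a => ?_
      have hone : ∀ a ∈ (T : Subgroup G), t' * a * t'⁻¹ ∈ (T : Subgroup G) := by
        intro a ha
        rcases hsplit a ha with h | h
        · exact (mem_inf.1 ((mem_normalizer_iff.1 ht'N a).1 h)).1
        · have e1 : t' * a * t'⁻¹ = (t' * t * t'⁻¹) * (t' * (t⁻¹ * a) * t'⁻¹) := by group
          rw [e1]
          exact mul_mem hkey (mem_inf.1 ((mem_normalizer_iff.1 ht'N _).1 h)).1
      refine ⟨hone a, fun h => ?_⟩
      have h2 := hone _ h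
      have e1 : a = (t' * t')⁻¹ * (t' * (t' * a * t'⁻¹) * t'⁻¹) * (t' * t') := by group
      rw [e1]
      exact mul_mem (mul_mem (inv_mem (mem_inf.1 ht'2).1) h2) (mem_inf.1 ht'2).1
    refine hyT (hN (mem_normalizer_iff.2 fun a => ?_))
    have hone : ∀ a ∈ (T : Subgroup G), y * a * y⁻¹ ∈ (T : Subgroup G) := by
      intro a ha
      rcases hsplit a ha with h | h
      · exact (mem_inf.1 ((mem_normalizer_iff.1 hyN a).1 h)).1
      · have e1 : y * a * y⁻¹ = t' * (y * (t⁻¹ * a) * y⁻¹) := by rw [ht']; group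
        rw [e1]
        exact mul_mem ht'T (mem_inf.1 ((mem_normalizer_iff.1 hyN _).1 h)).1
    refine ⟨hone a, fun h => ?_⟩
    have hmap : (T : Subgroup G).map (MulAut.conj y).toMonoidHom = (T : Subgroup G) := by
      refine eq_of_le_of_card_ge (by rintro _ ⟨b, hb, rfl⟩; exact hone b hb) (le_of_eq ?_)
      rw [card_map_of_injective (MulAut.conj y).injective]
    rw [← hmap, mem_map] at h
    obtain ⟨b, hb, hbe⟩ := h
    simp only [MulEquiv.coe_toMonoidHom, MulAut.conj_apply] at hbe
    have : b = a := by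
      have := congrArg (fun g => y⁻¹ * g * y) hbe
      simpa [mul_assoc] using this
    exact this ▸ hb
  -- the central elements fixed by `c`
  set c0 := c ^ (orderOf c / l) with hc0
  have hc0o : orderOf c0 = l := orderOf_pow_orderOf_div (orderOf_pos c).ne' hlc
  set Zy := Z.map (MulAut.conj y).toMonoidHom with hZy
  have hint : Zy ⊓ Z = ⊥ := by
    rw [eq_bot_iff_forall]
    rintro x ⟨⟨w, hw, hwx⟩, hxZ⟩
    by_contra hx1
    simp only [MulEquiv.coe_toMonoidHom, MulAut.conj_apply] at hwx
    have h1 : Commute t x := mem_centralizer_iff.1 hxZ t htT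
    have h2 : Commute t' x := by
      rw [← hwx, ht']
      exact (show Commute t w from mem_centralizer_iff.1 hw t htT).map
        (MulAut.conj y).toMonoidHom
    exact H.not_commute_central R (hZT hxZ) hx1 hxZ
      (hc0o ▸ hl.odd_of_ne_two hl2) (ne_one_of_orderOf hl hc0o) ((h1.mul_left h2).pow_left _)
  have hZyU : Zy ≤ U := by
    rintro _ ⟨w, hw, rfl⟩
    exact (mem_normalizer_iff.1 hyN w).1 (hZU hw)
  have hZ2 : Nat.card Z ≤ 2 := by
    have h1 : Z.relIndex Zy ≤ Z.relIndex U :=
      relIndex_le_of_le_right hZyU (index_ne_zero_of_finite (H := Z.subgroupOf U))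
    have h2 : Z.relIndex Zy = Nat.card Z := by
      rw [← inf_relIndex_right, inf_comm, hint, relIndex_bot_left, hZy,
        card_map_of_injective (MulAut.conj y).injective]
    have h3 : Nat.card Z * Z.relIndex U = Nat.card U := by
      rw [← relIndex_bot_left, ← relIndex_bot_left, relIndex_mul_relIndex ⊥ Z U bot_le hZU]
    have := Nat.card_pos (α := Z)
    rw [hcardU.1] at h3
    nlinarith
  have hU4 : Nat.card U ≤ 4 := by omega
  -- the action of `y` on `U`
  obtain ⟨z, hz2, hzT, hzZ⟩ := H.exists_central R T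
  have hz1 := ne_one_of_orderOf Nat.prime_two hz2
  have hzU : z ∈ U := hZU hzZ
  have hzu : z ≠ u := fun e => huZ (e ▸ hzZ)
  set σ : G → G := fun a => y * a * y⁻¹ with hσ
  have hσinj : Function.Injective σ := fun a b h => by
    simpa [hσ] using h
  have hσu : σ u = u := by
    have : y * u = u * y := mem_cent.1 (hQu hyQ)
    simp [hσ, this]
  have hσ1 : σ 1 = 1 := by simp [hσ]
  have hσU : ∀ a ∈ U, σ a ∈ U := fun a ha => (mem_normalizer_iff.1 hyN a).1 ha
  by_cases hfix : σ z = z
  · refine H.not_commute_central R hzT hz1 hzZ hyodd hy1 ?_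
    calc y * z = σ z * y := by simp [hσ]
      _ = z * y := by rw [hfix]
  have hset : ({1, u, z, σ z} : Finset G).card = 4 := by
    rw [Finset.card_insert_of_notMem, Finset.card_insert_of_notMem, Finset.card_pair (Ne.symm hfix)]
    · simp only [Finset.mem_insert, Finset.mem_singleton, not_or]
      exact ⟨hzu.symm, fun e => hzu (hσinj (e.symm.trans hσu.symm))⟩
    · simp only [Finset.mem_insert, Finset.mem_singleton, not_or]
      exact ⟨hu1.symm, hz1.symm, fun e => hz1 (hσinj (e.symm.trans hσ1.symm))⟩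
  haveI := Fintype.ofFinite G
  have hUe : ({1, u, z, σ z} : Finset G) = (Finset.univ : Finset G).filter (· ∈ U) := by
    refine Finset.eq_of_subset_of_card_le (fun a ha => ?_) ?_
    · simp only [Finset.mem_insert, Finset.mem_singleton] at ha
      rw [Finset.mem_filter]
      refine ⟨Finset.mem_univ _, ?_⟩
      rcases ha with rfl | rfl | rfl | rfl
      exacts [one_mem _, huU, hzU, hσU z hzU]
    · rw [hset, ← Fintype.card_subtype, ← Nat.card_eq_fintype_card]
      exact hU4
  have hmem : σ (σ z) ∈ ({1, u, z, σ z} : Finset G) := by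
    rw [hUe, Finset.mem_filter]
    exact ⟨Finset.mem_univ _, hσU _ (hσU z hzU)⟩
  simp only [Finset.mem_insert, Finset.mem_singleton] at hmem
  rcases hmem with e | e | e | e
  · exact hz1 (hσinj (hσinj (e.trans (by rw [hσ1, hσ1]))))
  · exact hzu (hσinj (hσinj (e.trans (by rw [hσu, hσu]))))
  · refine hfix ?_
    have h2 : Commute (y * y) z := by
      show y * y * z = z * (y * y)
      calc y * y * z = σ (σ z) * (y * y) := by simp [hσ, mul_assoc]
        _ = z * (y * y) := by rw [e]
    have h3 : y * z = z * y := commute_of_sq hyodd h2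
    simp [hσ, h3]
  · exact hfix (hσinj e)

end Hyp

end Cfsg.Agent.TwoPrimes
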