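import Cfsg.Agent.Lib.TwoPrimes.SimpleFacts

/-!
A perfect group with two-prime class sizes over a simple quotient.
-/

set_option autoImplicit false
set_option linter.style.haveILetI false
set_option linter.unusedSectionVars false

namespace Cfsg.Agent.TwoPrimes

open Subgroup ThreeSizes

universe u

variable {L : Type u} [Group L] [Finite L]

theorem exists_perfect_normal (h : ¬ Group.IsSolvable L) :
    ∃ K : Subgroup L, K.Characteristic ∧ K ≠ ⊥ ∧ ⁅K, K⁆ = K := by
  classical
  have hne : ∀ n, derivedSeries L n ≠ ⊥ := fun n hn => h ⟨⟨n, hn⟩⟩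
  have hstab : ∃ n, derivedSeries L (n + 1) = derivedSeries L n := by
    by_contra hcon
    push Not at hcon
    have hlt : ∀ n, Nat.card (derivedSeries L n) + n ≤ Nat.card L := by
      intro n
      induction n with
      | zero => simp [card_subgroup_dvd_card, Nat.le_of_dvd Nat.card_pos]
      | succ n ih =>
        have hle : derivedSeries L (n + 1) ≤ derivedSeries L n := by
          rw [derivedSeries_succ]; exact Subgroup.commutator_le_self _
        have : Nat.card (derivedSeries L (n + 1)) < Nat.card (derivedSeries L n) := by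
          refine lt_of_le_of_ne (Nat.le_of_dvd Nat.card_pos (card_dvd_of_le hle)) fun he => ?_
          exact hcon n (eq_of_le_of_card_ge hle he.ge)
        omega
    have := hlt (Nat.card L + 1)
    have := Nat.card_pos (α := derivedSeries L (Nat.card L + 1))
    omega
  obtain ⟨n, hn⟩ := hstab
  exact ⟨derivedSeries L n, derivedSeries_characteristic L n, hne n,
    (derivedSeries_succ L n).symm.trans hn⟩

theorem commutator_eq_top_of_perfect {K : Subgroup L} (h : ⁅K, K⁆ = K) : commutator K = ⊤ := by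
  refine Subgroup.map_injective (subtype_injective K) ?_
  rw [map_subtype_commutator, h, ← MonoidHom.range_eq_map, range_subtype]

theorem exists_max_normal [Nontrivial L] :
    ∃ N : Subgroup L, N.Normal ∧ N ≠ ⊤ ∧ ∀ K : Subgroup L, K.Normal → N ≤ K → K = N ∨ K = ⊤ := by
  classical
  obtain ⟨N, ⟨hN, hNt⟩, hmax⟩ := Set.exists_max_image
    {K : Subgroup L | K.Normal ∧ K ≠ ⊤} (fun K => Nat.card K) (Set.toFinite _)
    ⟨⊥, inferInstance, bot_ne_top⟩
  refine ⟨N, hN, hNt, fun K hK hle => or_iff_not_imp_right.2 fun ht => ?_⟩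
  exact (eq_of_le_of_card_ge hle (hmax K ⟨hK, ht⟩)).symm

/-- A perfect group `L` with two-prime class sizes and a maximal normal subgroup `N`. -/
structure PQ (L : Type u) [Group L] [Finite L] (N : Subgroup L) [N.Normal] : Prop where
  two : Two L
  perfect : commutator L = ⊤
  ne_top : N ≠ ⊤
  max : ∀ K : Subgroup L, K.Normal → N ≤ K → K = N ∨ K = ⊤

namespace PQ

variable {N : Subgroup L} [N.Normal] (P : PQ L N)

include P

theorem eq_top_of_solvable_quotient {K : Subgroup L} [K.Normal]
    (h : Group.IsSolvable (L ⧸ K)) : K = ⊤ := by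
  haveI := h
  by_contra hK
  haveI : Nontrivial (L ⧸ K) := QuotientGroup.nontrivial_iff.2 hK
  obtain ⟨n, hn⟩ := h.1
  have htop : ∀ m, derivedSeries (L ⧸ K) m = ⊤ := by
    intro m
    induction m with
    | zero => rfl
    | succ m ih =>
      rw [derivedSeries_succ, ih]
      have := congrArg (Subgroup.map (QuotientGroup.mk' K)) P.perfect
      rwa [commutator_def, map_commutator, map_top_of_surjective _ (QuotientGroup.mk'_surjective K)]
        at this
  exact bot_ne_top (hn.symm.trans (htop n))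

theorem hyp : Hyp (L ⧸ N) := by
  refine ⟨?_, ?_, P.two.quot N⟩
  · haveI : Nontrivial (L ⧸ N) := QuotientGroup.nontrivial_iff.2 P.ne_top
    refine ⟨fun K hK => ?_⟩
    rcases P.max (K.comap (QuotientGroup.mk' N)) (hK.comap _)
      (by intro x hx; rw [mem_comap, QuotientGroup.mk'_apply, (QuotientGroup.eq_one_iff x).2 hx]
          exact one_mem _) with e | e
    · left
      rw [← map_comap_eq_self_of_surjective (QuotientGroup.mk'_surjective N) K, e]
      exact (Subgroup.map_eq_bot_iff _).2 (QuotientGroup.ker_mk' N).ge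
    · right
      rw [← map_comap_eq_self_of_surjective (QuotientGroup.mk'_surjective N) K, e]
      exact map_top_of_surjective _ (QuotientGroup.mk'_surjective N)
  · intro hc
    exact P.ne_top (P.eq_top_of_solvable_quotient
      (isSolvable_of_comm fun a b => hc.is_comm.comm a b))

theorem sup_eq_top (K : Subgroup L) [K.Normal] (h : ¬ K ≤ N) : K ⊔ N = ⊤ :=
  (P.max (K ⊔ N) inferInstance le_sup_right).resolve_left fun e => h (sup_eq_right.1 e)

theorem index_ne_one : N.index ≠ 1 := fun h => P.ne_top (index_eq_one.1 h)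

/-- Outside `N` the prime divisors of the class size are those of the quotient. -/
theorem dvd_ix_iff {x : L} (hx : x ∉ N) {p : ℕ} (hp : p.Prime) :
    p ∣ (cent x).index ↔ p ∣ (cent (x : L ⧸ N)).index := by
  have hd : (cent (x : L ⧸ N)).index ∣ (cent x).index := OddDown.index_cent_dvd_quot N x
  refine ⟨fun h => ?_, fun h => h.trans hd⟩
  have h1 : (x : L ⧸ N) ≠ 1 := fun e => hx ((QuotientGroup.eq_one_iff x).1 e)
  have hsub := Nat.primeFactors_mono hd index_ne_zero_of_finite
  have heq := Finset.eq_of_subset_of_card_le hsub ((P.two x).trans (P.hyp.card_ix h1).ge)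
  have : p ∈ (cent x).index.primeFactors :=
    Nat.mem_primeFactors.2 ⟨hp, h, index_ne_zero_of_finite⟩
  rw [← heq] at this
  exact Nat.dvd_of_mem_primeFactors this

theorem no_complement {p : ℕ} [Fact p.Prime] (hp : p ∣ Nat.card L) :
    ¬ Cfsg.HasNormalPComplement p L := by
  rintro ⟨S, K, hK, hc⟩
  have hS : Group.IsSolvable (S : Subgroup L) := by
    haveI := S.isPGroup'.isNilpotent
    infer_instance
  have e := hc.symm.QuotientMulEquiv
  have hKt : K = ⊤ := P.eq_top_of_solvable_quotient
    (solvable_of_surjective (f := e.symm.toMonoidHom) e.symm.surjective)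
  have h := hc.card_mul
  rw [hKt, card_top] at h
  have h2 : 1 < Nat.card (S : Subgroup L) := by
    rw [S.card_eq_multiplicity]
    exact one_lt_pow₀ (Fact.out : p.Prime).one_lt
      ((Fact.out : p.Prime).factorization_pos_of_dvd Nat.card_pos.ne' hp).ne'
  have := Nat.card_pos (α := L)
  nlinarith

theorem dvd_quot {p : ℕ} (hp : p.Prime) (hd : p ∣ Nat.card L) : p ∣ Nat.card (L ⧸ N) := by
  haveI := Fact.mk hp
  by_contra hnd
  have h2 := ClassCover.two_mul_ncard_regSet_le p (P.no_complement hd)
  have hsub : ((N : Set L))ᶜ ⊆ ClassCover.regSet (G := L) p := fun x hx h =>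
    hnd (((P.dvd_ix_iff hx hp).1 h).trans (index_dvd_card _))
  have h3 := Set.ncard_le_ncard hsub (Set.toFinite _)
  rw [Set.ncard_compl (N : Set L), ← Nat.card_coe_set_eq] at h3
  have h3' : Nat.card L - Nat.card N ≤ (ClassCover.regSet (G := L) p).ncard := h3
  have h4 := N.card_mul_index
  have h5 : 3 ≤ N.index := by
    obtain ⟨f, hf, hcard, -⟩ := P.hyp.classify
    rw [index_eq_card, hcard]
    rcases hf with rfl | rfl <;> norm_num
  have h6 : Nat.card N * 3 ≤ Nat.card N * N.index := Nat.mul_le_mul_left _ h5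
  have := Nat.card_pos (α := N)
  omega

theorem map_normalizer {p : ℕ} [Fact p.Prime] (Q : Sylow p L) :
    normalizer ((Q.mapSurjective (QuotientGroup.mk'_surjective N) : Subgroup (L ⧸ N)) : Set (L ⧸ N)) ≤
      (normalizer ((Q : Subgroup L) : Set L)).map (QuotientGroup.mk' N) := by
  set π := QuotientGroup.mk' N with hπ
  set Qb := Q.mapSurjective (QuotientGroup.mk'_surjective N) with hQb
  have hQbc : (Qb : Subgroup (L ⧸ N)) = (Q : Subgroup L).map π := Sylow.coe_mapSurjective ..
  intro xb hxb
  obtain ⟨x, rfl⟩ := QuotientGroup.mk'_surjective N xb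
  set K := (Qb : Subgroup (L ⧸ N)).comap π with hK
  have hQK : (Q : Subgroup L) ≤ K := fun a ha => mem_comap.2 (hQbc ▸ mem_map_of_mem π ha)
  have hxQK : ((x • Q : Sylow p L) : Subgroup L) ≤ K := by
    intro a ha
    rw [Sylow.coe_subgroup_smul, mem_pointwise_smul_iff_inv_smul_mem] at ha
    simp [MulAut.smul_def] at ha
    rw [hK, mem_comap]
    have h1 : π (x⁻¹ * a * x) ∈ (Qb : Subgroup (L ⧸ N)) := hQbc ▸ mem_map_of_mem π ha
    have h2 := (mem_normalizer_iff.1 hxb _).1 h1
    rwa [map_mul, map_mul, map_inv, show π x * ((π x)⁻¹ * π a * π x) * (π x)⁻¹ = π a by group]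
      at h2
  obtain ⟨k, hk⟩ := MulAction.exists_smul_eq K (Q.subtype hQK) ((x • Q).subtype hxQK)
  rw [Sylow.smul_subtype] at hk
  have hk' : (k : L) • Q = x • Q := Sylow.subtype_injective hk
  have hn : (k : L)⁻¹ * x ∈ normalizer ((Q : Subgroup L) : Set L) := by
    refine Sylow.smul_eq_iff_mem_normalizer.1 ?_
    rw [mul_smul, ← hk', inv_smul_smul]
  have hkQ : π (k : L) ∈ (Q : Subgroup L).map π := hQbc ▸ mem_comap.1 k.2
  have h1 : π x = π k * π ((k : L)⁻¹ * x) := by rw [← map_mul, mul_inv_cancel_left]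
  rw [h1]
  exact mul_mem (map_mono le_normalizer hkQ) (mem_map_of_mem π hn)

theorem kk_dvd {p : ℕ} [Fact p.Prime] (Q : Sylow p L) :
    kk ((Q.mapSurjective (QuotientGroup.mk'_surjective N) : Sylow p (L ⧸ N)) : Subgroup (L ⧸ N)) ∣
      kk (Q : Subgroup L) := by
  set π := QuotientGroup.mk' N with hπ
  set Qb := Q.mapSurjective (QuotientGroup.mk'_surjective N) with hQb
  have hQbc : (Qb : Subgroup (L ⧸ N)) = (Q : Subgroup L).map π := Sylow.coe_mapSurjective ..
  have hN : normalizer ((Qb : Subgroup (L ⧸ N)) : Set (L ⧸ N)) =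
      (normalizer ((Q : Subgroup L) : Set L)).map π := by
    refine le_antisymm (P.map_normalizer Q) ?_
    rw [hQbc]
    exact le_normalizer_map π
  show (centralizer ((Qb : Subgroup (L ⧸ N)) : Set (L ⧸ N))).relIndex _ ∣ _
  rw [hN, ← relIndex_comap]
  refine relIndex_dvd_of_le_left _ fun a ha => ?_
  rw [mem_comap, hQbc, mem_centralizer_iff]
  rintro _ ⟨b, hb, rfl⟩
  rw [← map_mul, ← map_mul, mem_centralizer_iff.1 ha b hb]

theorem sylow_comm (p : ℕ) [hp : Fact p.Prime] (Q : Sylow p L) :
    IsMulCommutative (Q : Subgroup L) := by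
  classical
  by_cases hd : p ∣ Nat.card L
  swap
  · have : (Q : Subgroup L) = ⊥ := by
      refine Subgroup.eq_bot_of_card_eq _ ?_
      rw [Q.card_eq_multiplicity, Nat.factorization_eq_zero_of_not_dvd hd, pow_zero]
    rw [this]
    infer_instance
  by_contra hnc
  have hdS := P.dvd_quot hp.out hd
  have H := P.hyp
  set Qb := Q.mapSurjective (QuotientGroup.mk'_surjective N) with hQb
  haveI := H.all_comm p Qb
  haveI := Fintype.ofFinite (Sylow p (L ⧸ N))
  haveI := Fintype.ofFinite (L ⧸ N)
  have hco : ¬ p ∣ kk (Qb : Subgroup (L ⧸ N)) := not_dvd_relIndex_of_comm Qb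
  have hkS := H.two_le_kk hdS Qb
  have hk : p ^ 2 * kk (Qb : Subgroup (L ⧸ N)) ≤ kk (Q : Subgroup L) := by
    refine Nat.le_of_dvd (Nat.pos_of_ne_zero index_ne_zero_of_finite) ?_
    exact Nat.Coprime.mul_dvd_of_dvd_of_dvd ((hp.out.coprime_iff_not_dvd.2 hco).pow_left 2)
      (sq_dvd_relIndex_of_not_comm Q hnc) (P.kk_dvd Q)
  -- the nontrivial `p`-elements of the quotient
  set S : Sylow p (L ⧸ N) → Finset (L ⧸ N) := fun R =>
    ((Finset.univ : Finset (L ⧸ N)).filter (· ∈ (R : Subgroup (L ⧸ N)))).erase 1 with hS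
  set Y := Finset.univ.biUnion S with hY
  have hYcard : Y.card = Nat.card (Sylow p (L ⧸ N)) * (Nat.card Qb - 1) := by
    rw [hY, Finset.card_biUnion]
    · rw [Nat.card_eq_fintype_card (α := Sylow p (L ⧸ N)), Fintype.card, ← smul_eq_mul,
        ← Finset.sum_const]
      refine Finset.sum_congr rfl fun R _ => ?_
      rw [hS, Finset.card_erase_of_mem (by simp [one_mem]), ← Fintype.card_subtype,
        ← Nat.card_eq_fintype_card]
      congr 1
      exact Nat.card_congr (Sylow.equiv R Qb).toEquiv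
    · intro R _ R' _ hne
      show Disjoint (S R) (S R')
      rw [Finset.disjoint_left]
      intro a ha ha'
      simp only [hS, Finset.mem_erase, Finset.mem_filter, Finset.mem_univ, true_and] at ha ha'
      exact hne (Sylow.ext ((H.cent_sylow R ha.2 ha.1).symm.trans (H.cent_sylow R' ha'.2 ha'.1)))
  have hpre : (QuotientGroup.mk ⁻¹' (Y : Set (L ⧸ N)) : Set L) ⊆ ClassCover.regSet (G := L) p := by
    intro x hx h
    obtain ⟨R, -, hR⟩ := Finset.mem_biUnion.1 (Finset.mem_coe.1 hx)
    simp only [hS, Finset.mem_erase, Finset.mem_filter, Finset.mem_univ, true_and] at hR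
    have hxN : x ∉ N := fun h' => hR.1 ((QuotientGroup.eq_one_iff x).2 h')
    haveI := H.all_comm p R
    exact typ_of_mem R hR.2 ((P.dvd_ix_iff hxN hp.out).1 h)
  have h1 : Nat.card N * Y.card ≤ (ClassCover.regSet (G := L) p).ncard := by
    refine le_trans (le_of_eq ?_) (Set.ncard_le_ncard hpre (Set.toFinite _))
    rw [← Nat.card_coe_set_eq, Nat.card_congr (QuotientGroup.preimageMkEquivSubgroupProdSet N _),
      Nat.card_prod, Nat.card_coe_set_eq, Set.ncard_coe_finset]
  have h2 : (ClassCover.regSet (G := L) p).ncard * kk (Q : Subgroup L) ≤ Nat.card L :=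
    ncard_reg_mul_le Q
  have h3 : Nat.card L = Nat.card N * (Nat.card (Sylow p (L ⧸ N)) *
      (kk (Qb : Subgroup (L ⧸ N)) * Nat.card Qb)) := by
    rw [← H.card_normalizer hdS Qb, Qb.card_eq_index_normalizer, mul_comm (normalizer _).index]
    have e := card_mul_index (normalizer ((Qb : Subgroup (L ⧸ N)) : Set (L ⧸ N)))
    exact N.card_mul_index.symm.trans (congrArg (Nat.card N * ·) (N.index_eq_card.trans e.symm))
  have hq2 : 2 ≤ Nat.card Qb := by
    obtain ⟨x, hx, hx1⟩ := sylow_exists_ne_one hdS Qb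
    haveI : Nontrivial (Qb : Subgroup (L ⧸ N)) := ⟨⟨⟨x, hx⟩, 1, fun e => hx1 (congrArg Subtype.val e)⟩⟩
    exact Finite.one_lt_card
  have hp4 : 4 ≤ p ^ 2 := by
    have := hp.out.two_le
    nlinarith
  rw [hYcard] at h1
  have hn0 : 0 < Nat.card N * Nat.card (Sylow p (L ⧸ N)) := Nat.mul_pos Nat.card_pos Nat.card_pos
  generalize Nat.card N = a at *
  generalize Nat.card (Sylow p (L ⧸ N)) = n at *
  generalize kk (Qb : Subgroup (L ⧸ N)) = kS at *
  generalize kk (Q : Subgroup L) = kL at *
  generalize Nat.card Qb = c at *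
  generalize (ClassCover.regSet (G := L) p).ncard = rg at *
  generalize Nat.card L = g at *
  obtain ⟨d, rfl⟩ : ∃ d, c = d + 1 := ⟨c - 1, by omega⟩
  rw [Nat.add_sub_cancel] at h1
  have e1 : (a * n * d) * (4 * kS) ≤ rg * kL := by
    refine Nat.mul_le_mul (le_of_eq_of_le (by ring) h1) (le_trans ?_ hk)
    exact Nat.mul_le_mul_right _ hp4
  have e2 : a * n * kS * (4 * d) ≤ a * n * kS * (d + 1) := by
    calc _ = a * n * d * (4 * kS) := by ring
      _ ≤ rg * kL := e1
      _ ≤ g := h2
      _ = _ := by rw [h3]; ring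
  have := Nat.le_of_mul_le_mul_left e2 (Nat.mul_pos hn0 (by omega))
  omega

end PQ

end Cfsg.Agent.TwoPrimes
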