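import Cfsg.Agent.Lib.TwoPrimes.Quot

/-!
A perfect group with two-prime class sizes is simple.
-/

set_option autoImplicit false
set_option linter.style.haveILetI false
set_option linter.unusedSectionVars false

namespace Cfsg.Agent.TwoPrimes

open Subgroup ThreeSizes

universe u

variable {L : Type u} [Group L] [Finite L]

theorem exists_pel_not_mem {N : Subgroup L} [N.Normal] {C : Subgroup L} {r : ℕ} (hr : r.Prime)
    (hsup : C ⊔ N = ⊤) (hd : r ∣ Nat.card (L ⧸ N)) : ∃ c ∈ C, PEl r c ∧ c ∉ N := by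
  haveI := Fact.mk hr
  obtain ⟨xb, hxb⟩ := exists_prime_orderOf_dvd_card' (G := L ⧸ N) r hd
  obtain ⟨y, rfl⟩ := QuotientGroup.mk_surjective xb
  obtain ⟨x, hx, n, hn, rfl⟩ := mem_sup_of_normal_right.1 (hsup.ge (mem_top y))
  have hxb' : orderOf ((x : L ⧸ N)) = r := by
    rwa [QuotientGroup.mk_mul, (QuotientGroup.eq_one_iff n).2 hn, mul_one] at hxb
  have hx0 : orderOf x ≠ 0 := (orderOf_pos x).ne'
  refine ⟨x ^ ordCompl[r] (orderOf x), pow_mem hx _, ⟨(orderOf x).factorization r, ?_⟩, ?_⟩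
  · rw [← pow_mul, mul_comm, Nat.ordProj_mul_ordCompl_eq_self, pow_orderOf_eq_one]
  · intro h
    have h1 : (x : L ⧸ N) ^ ordCompl[r] (orderOf x) = 1 := by
      rw [← QuotientGroup.mk_pow, (QuotientGroup.eq_one_iff _).2 h]
    have h2 := orderOf_dvd_of_pow_eq_one h1
    rw [hxb'] at h2
    exact Nat.not_dvd_ordCompl hr hx0 h2

theorem Hyp.of_equiv {M : Type u} [Group M] (H : Hyp L) (e : L ≃* M) (h : Two M) : Hyp M := by
  haveI := H.simple
  haveI : Nontrivial M := e.symm.toEquiv.nontrivial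
  refine ⟨⟨fun K hK => ?_⟩, fun hc => H.nonab ⟨⟨fun a b => e.injective ?_⟩⟩, h⟩
  · rcases (hK.comap e.toMonoidHom).eq_bot_or_eq_top with h1 | h1
    · left
      rw [← map_comap_eq_self_of_surjective (f := e.toMonoidHom) e.surjective K, h1, Subgroup.map_bot]
    · right
      rw [← map_comap_eq_self_of_surjective (f := e.toMonoidHom) e.surjective K, h1]
      exact map_top_of_surjective _ e.surjective
  · rw [map_mul, map_mul, hc.is_comm.comm]

theorem Hyp.not_typ {l m : ℕ} (H : Hyp L) {x : L} (hx : x ≠ 1)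
    (hl : l ∈ (Nat.card L).primeFactors) (hm : m ∈ (Nat.card L).primeFactors) (hlm : l ≠ m)
    (h : Typ l x) : m ∣ (cent x).index := by
  by_contra hd
  exact hlm (H.typ_unique hx hl hm h hd)

namespace PQ

variable {N : Subgroup L} [N.Normal] (P : PQ L N)

include P

theorem not_sylow_le {p : ℕ} [Fact p.Prime] (hd : p ∣ Nat.card (L ⧸ N)) (Q : Sylow p L) :
    ¬ (Q : Subgroup L) ≤ N := by
  intro hle
  obtain ⟨x, hx, hx1⟩ := sylow_exists_ne_one hd (Q.mapSurjective (QuotientGroup.mk'_surjective N))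
  rw [Sylow.coe_mapSurjective] at hx
  obtain ⟨a, ha, rfl⟩ := hx
  exact hx1 ((QuotientGroup.eq_one_iff a).2 (hle ha))

/-- No nontrivial abelian normal subgroup of prime power order. -/
theorem no_normal_pgroup {p : ℕ} [Fact p.Prime] {A : Subgroup L} [A.Normal] (hAN : A ≤ N)
    (hA : IsPGroup p A) (hne : A ≠ ⊥) (hN : Group.IsSolvable N) : False := by
  classical
  obtain ⟨a, ha, ha1⟩ : ∃ a ∈ A, a ≠ 1 := by
    by_contra hcon
    push Not at hcon
    exact hne ((eq_bot_iff_forall _).2 hcon)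
  have hpL : p ∣ Nat.card L := by
    obtain ⟨n, hn⟩ := exists_pow_orderOf (Fact.out : p.Prime) (PEl.of_isPGroup hA ha) ha1
    rw [← hn]
    exact orderOf_dvd_natCard _
  obtain ⟨Q⟩ : Nonempty (Sylow p L) := inferInstance
  haveI := P.sylow_comm p Q
  have hAQ : A ≤ (Q : Subgroup L) := le_sylow_of_normal A hA Q
  set C := centralizer (A : Set L) with hC
  have hQC : (Q : Subgroup L) ≤ C := (le_centralizer (Q : Subgroup L)).trans (centralizer_le hAQ)
  have hsup : C ⊔ N = ⊤ := P.sup_eq_top C fun h =>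
    P.not_sylow_le (P.dvd_quot Fact.out hpL) Q (hQC.trans h)
  have hsurj : Function.Surjective ((QuotientGroup.mk' C).comp N.subtype) := by
    intro c
    obtain ⟨y, rfl⟩ := QuotientGroup.mk'_surjective C c
    obtain ⟨x, hx, n, hn, rfl⟩ := mem_sup_of_normal_right.1 (hsup.ge (mem_top y))
    refine ⟨⟨n, hn⟩, ?_⟩
    show QuotientGroup.mk' C n = QuotientGroup.mk' C (x * n)
    rw [map_mul, (show QuotientGroup.mk' C x = 1 from (QuotientGroup.eq_one_iff x).2 hx), one_mul]
  haveI := hN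
  have hCt : C = ⊤ := P.eq_top_of_solvable_quotient (solvable_of_surjective hsurj)
  have hcen : ∀ g : L, g * a = a * g := fun g =>
    (mem_centralizer_iff.1 (hCt.ge (mem_top g) : g ∈ C) a ha).symm
  refine ha1 ?_
  open scoped IsMulCommutative in
  set f : L →* (Q : Subgroup L) := MonoidHom.transfer (MonoidHom.id (Q : Subgroup L)) with hf
  have key : ∀ (k : ℕ) (g₀ : L), g₀⁻¹ * a ^ k * g₀ ∈ (Q : Subgroup L) →
      g₀⁻¹ * a ^ k * g₀ = a ^ k := by
    intro k g₀ _
    rw [mul_assoc, ← ((show Commute g₀ a from hcen g₀).pow_right k).eq, inv_mul_cancel_left]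
  open scoped IsMulCommutative in
  have hfz := MonoidHom.transfer_eq_pow (MonoidHom.id (Q : Subgroup L)) a key
  have hker : f.ker = ⊤ := by
    rw [eq_top_iff, ← P.perfect]
    rw [commutator_def, commutator_le]
    intro x _ y _
    rw [MonoidHom.mem_ker, map_commutatorElement]
    exact commutatorElement_eq_one_iff_mul_comm.2 (IsMulCommutative.is_comm.comm _ _)
  have h1 : f a = 1 := MonoidHom.mem_ker.1 (hker ▸ mem_top a)
  rw [hf, hfz, MonoidHom.id_apply] at h1
  have h2 : a ^ (Q : Subgroup L).index = 1 := congrArg Subtype.val h1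
  obtain ⟨j, hj⟩ := PEl.of_isPGroup hA ha
  exact eq_one_of_coprime
    (((Fact.out : p.Prime).coprime_iff_not_dvd.2 Q.not_dvd_index).pow_left j) hj h2

theorem not_solvable_case (hN : Group.IsSolvable N) : N = ⊥ := by
  classical
  by_contra hne
  haveI : Nontrivial N := (Subgroup.nontrivial_iff_ne_bot N).2 hne
  obtain ⟨n, hn⟩ := hN.1
  have hex : ∃ n, derivedSeries N n = ⊥ := ⟨n, hn⟩
  set k := Nat.find hex with hk
  have hk0 : k ≠ 0 := fun h => by
    have := Nat.find_spec hex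
    rw [← hk, h, derivedSeries_zero] at this
    exact top_ne_bot this
  set D := derivedSeries N (k - 1) with hD
  have hDne : D ≠ ⊥ := Nat.find_min hex (by omega)
  have hDc : ⁅D, D⁆ = ⊥ := by
    rw [hD, ← derivedSeries_succ, show k - 1 + 1 = k by omega]
    exact Nat.find_spec hex
  have hcomm : ∀ a ∈ D, ∀ b ∈ D, a * b = b * a := fun a ha b hb =>
    commutatorElement_eq_one_iff_mul_comm.1 ((Subgroup.mem_bot).1 (hDc ▸ commutator_mem_commutator ha hb))
  haveI : D.Characteristic := derivedSeries_characteristic N _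
  set A := D.map N.subtype with hA
  haveI hAn : A.Normal := ConjAct.normal_of_characteristic_of_normal
  obtain ⟨p, hp, hpd⟩ := Nat.exists_prime_and_dvd
    (show Nat.card D ≠ 1 from ((one_lt_card_iff_ne_bot D).2 hDne).ne')
  haveI := Fact.mk hp
  obtain ⟨d, hd⟩ := exists_prime_orderOf_dvd_card' (G := D) p hpd
  have hcommA : ∀ a ∈ A, ∀ b ∈ A, a * b = b * a := by
    rintro _ ⟨a, ha, rfl⟩ _ ⟨b, hb, rfl⟩
    rw [← map_mul, ← map_mul, hcomm a ha b hb]
  let Ap : Subgroup L :=
    { carrier := {x | x ∈ A ∧ PEl p x}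
      one_mem' := ⟨one_mem _, PEl.one p⟩
      mul_mem' := fun {x y} hx hy => ⟨mul_mem hx.1 hy.1, hx.2.mul (hcommA x hx.1 y hy.1) hy.2⟩
      inv_mem' := fun {x} hx => ⟨inv_mem hx.1, hx.2.inv⟩ }
  haveI : Ap.Normal := ⟨fun x hx g => ⟨hAn.conj_mem x hx.1 g, hx.2.conj g⟩⟩
  refine P.no_normal_pgroup (A := Ap) (p := p)
    (fun x hx => Subgroup.map_subtype_le _ hx.1) (PEl.isPGroup_of_forall fun x hx => hx.2) ?_ hN
  intro h
  have hmem : ((d : N) : L) ∈ Ap :=
    ⟨⟨d, d.2, rfl⟩, pel_of_orderOf (n := 1) (by rw [pow_one, Subgroup.orderOf_coe, Subgroup.orderOf_coe, hd])⟩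
  rw [h, mem_bot] at hmem
  have : orderOf d = 1 := by
    rw [← Subgroup.orderOf_coe, ← Subgroup.orderOf_coe, hmem, orderOf_one]
  exact hp.one_lt.ne' (hd.symm.trans this)

theorem solvable_kernel : Group.IsSolvable N := by
  classical
  by_contra hns
  obtain ⟨K, hKc, hKne, hKp⟩ := exists_perfect_normal hns
  haveI := hKc
  set R := K.map N.subtype with hR
  haveI hRn : R.Normal := ConjAct.normal_of_characteristic_of_normal
  have hRN : R ≤ N := Subgroup.map_subtype_le _
  have hRp : commutator R = ⊤ := commutator_eq_top_of_perfect (by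
    rw [hR, ← map_commutator, hKp])
  haveI : Nontrivial R := (Subgroup.nontrivial_iff_ne_bot R).2 fun h => hKne
    ((map_eq_bot_iff_of_injective K N.subtype_injective).1 h)
  obtain ⟨M, hMn, hMt, hMm⟩ := exists_max_normal (L := R)
  haveI := hMn
  have P1 : PQ R M := ⟨P.two.normal R, hRp, hMt, hMm⟩
  have HS := P.hyp
  have HT := P1.hyp
  have hpi : (Nat.card (R ⧸ M)).primeFactors = (Nat.card (L ⧸ N)).primeFactors := by
    refine Finset.eq_of_subset_of_card_le (fun l hl => ?_) (by rw [HS.card_pi, HT.card_pi])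
    rw [Nat.mem_primeFactors] at hl ⊢
    exact ⟨hl.1, P.dvd_quot hl.1 ((hl.2.1.trans (card_quotient_dvd_card M)).trans
      (card_subgroup_dvd_card R)), Nat.card_pos.ne'⟩
  obtain ⟨q, r, hq, hr, q2, r2, qr, hπ⟩ := HS.exists_primes
  haveI := Fact.mk hq
  haveI := Fact.mk hr
  haveI : Fact (Nat.Prime 2) := ⟨Nat.prime_two⟩
  have m2 : (2 : ℕ) ∈ (Nat.card (L ⧸ N)).primeFactors := by rw [hπ]; simp
  have mq : q ∈ (Nat.card (L ⧸ N)).primeFactors := by rw [hπ]; simp
  have mr : r ∈ (Nat.card (L ⧸ N)).primeFactors := by rw [hπ]; simp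
  -- an element of the residual
  obtain ⟨QR⟩ : Nonempty (Sylow q R) := inferInstance
  obtain ⟨a, haQ, haM⟩ := SetLike.not_le_iff_exists.1
    (P1.not_sylow_le (Nat.dvd_of_mem_primeFactors (hpi.symm ▸ mq)) QR)
  have hap : PEl q a := PEl.of_isPGroup QR.isPGroup' haQ
  have haT : Typ q (a : R ⧸ M) :=
    HT.typ_pel (fun Q => HT.all_comm q Q) (hap.map (QuotientGroup.mk' M))
  have hane : (a : R ⧸ M) ≠ 1 := fun h => haM ((QuotientGroup.eq_one_iff a).1 h)
  have hda : ∀ l, l ∈ (Nat.card (L ⧸ N)).primeFactors → q ≠ l → l ∣ (cent (a : L)).index := by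
    intro l hl hne
    have h := HT.not_typ hane (hpi.symm ▸ mq) (hpi.symm ▸ hl) hne haT
    exact h.trans ((OddDown.index_cent_dvd_quot M a).trans (OddDown.index_cent_dvd_normal R a))
  -- a Sylow subgroup of `N` containing it
  set aN : N := ⟨a, hRN a.2⟩ with haN
  have haNp : PEl q aN := hap.coe.restrict (x := aN)
  obtain ⟨Q1, hQ1⟩ := (pel_zpowers haNp).exists_le_sylow
  set Q1L := (Q1 : Subgroup N).map N.subtype with hQ1L
  obtain ⟨QL, hQL⟩ := (Q1.isPGroup'.map N.subtype).exists_le_sylow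
  haveI := P.sylow_comm q QL
  set C := centralizer (Q1L : Set L) with hC
  have hCN : (C ⊔ N).Normal := by
    rw [← normalizer_eq_top_iff, eq_top_iff, ← Sylow.normalizer_sup_eq_top Q1]
    refine sup_le (fun g hg => mem_normalizer_iff.2 fun x => ?_) (le_trans le_sup_right le_normalizer)
    have h1 : ∀ g ∈ normalizer (Q1L : Set L), ∀ x ∈ C ⊔ N, g * x * g⁻¹ ∈ C ⊔ N := by
      intro g hg x hx
      obtain ⟨c, hc, n, hn, rfl⟩ := mem_sup_of_normal_right.1 hx
      rw [show g * (c * n) * g⁻¹ = (g * c * g⁻¹) * (g * n * g⁻¹) by group]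
      exact mul_mem (mem_sup_left (normalizer_mem_centralizer hg hc))
        (mem_sup_right ((inferInstance : N.Normal).conj_mem n hn g))
    refine ⟨h1 g hg x, fun h => ?_⟩
    have := h1 _ (inv_mem hg) _ h
    simpa [mul_assoc] using this
  have hsup : C ⊔ N = ⊤ :=
    (P.max _ hCN le_sup_right).resolve_left fun h => P.not_sylow_le (Nat.dvd_of_mem_primeFactors mq) QL
      (((le_centralizer (QL : Subgroup L)).trans (centralizer_le hQL)).trans (sup_eq_right.1 h))
  obtain ⟨c, hcC, hcp, hcN⟩ := exists_pel_not_mem hr hsup (Nat.dvd_of_mem_primeFactors mr)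
  have hcT : Typ r (c : L ⧸ N) :=
    HS.typ_pel (fun Q => HS.all_comm r Q) (hcp.map (QuotientGroup.mk' N))
  have hcne : (c : L ⧸ N) ≠ 1 := fun h => hcN ((QuotientGroup.eq_one_iff c).1 h)
  have hdc : q ∣ (cent c).index :=
    (HS.not_typ hcne mr mq qr.symm hcT).trans (OddDown.index_cent_dvd_quot N c)
  have hcomm : c ∈ cent (a : L) :=
    mem_cent.2 (mem_centralizer_iff.1 hcC (a : L) ⟨aN, hQ1 (mem_zpowers aN), rfl⟩).symm
  have hce := cent_mul_primes hq hr qr hap.coe hcp hcomm
  have hle1 : cent ((a : L) * c) ≤ cent (a : L) := hce.le.trans inf_le_left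
  have hle2 : cent ((a : L) * c) ≤ cent c := hce.le.trans inf_le_right
  exact P.two.false_of_three ((a : L) * c) Nat.prime_two hq hr q2.symm r2.symm qr
    ((hda 2 m2 q2).trans (index_dvd_of_le hle1)) (hdc.trans (index_dvd_of_le hle2))
    ((hda r mr qr).trans (index_dvd_of_le hle1))

theorem eq_bot : N = ⊥ := P.not_solvable_case P.solvable_kernel

end PQ

/-- A perfect group with two-prime class sizes is simple. -/
theorem hyp_of_perfect [Nontrivial L] (hp : commutator L = ⊤) (h : Two L) : Hyp L := by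
  obtain ⟨N, hN, hNt, hNm⟩ := exists_max_normal (L := L)
  haveI := hN
  have P : PQ L N := ⟨h, hp, hNt, hNm⟩
  exact P.hyp.of_equiv ((QuotientGroup.quotientMulEquivOfEq P.eq_bot).trans QuotientGroup.quotientBot) h

end Cfsg.Agent.TwoPrimes
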