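import Cfsg.Agent.Lib.TwoPrimes.Basic
import Cfsg.Agent.Lib.OddChar.OddTheorem
import Cfsg.Agent.Lib.Char.Burnside

/-!
Simple groups in which class sizes have at most two prime divisors: three primes, types of elements.
-/

set_option autoImplicit false
set_option linter.style.haveILetI false
set_option linter.unusedSectionVars false

namespace Cfsg.Agent.TwoPrimes

open Subgroup ThreeSizes

universe u

variable {G : Type u} [Group G]

/-- The index of the centralizer of a subgroup in its normalizer. -/
noncomputable abbrev kk (P : Subgroup G) : ℕ :=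
  (centralizer (P : Set G)).relIndex (normalizer (P : Set G))

/-- The hypotheses on the simple group. -/
structure Hyp (G : Type u) [Group G] : Prop where
  simple : IsSimpleGroup G
  nonab : ¬ IsMulCommutative G
  two : Two G

namespace Hyp

variable [Finite G] (H : Hyp G)

include H

theorem not_solvable : ¬ Group.IsSolvable G := fun hs => by
  haveI := H.simple
  exact H.nonab ⟨⟨IsSimpleGroup.comm_iff_isSolvable.2 hs⟩⟩

theorem center_eq_bot : center G = ⊥ := by
  haveI := H.simple
  refine (inferInstance : (center G).Normal).eq_bot_or_eq_top.resolve_right fun e => ?_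
  exact H.nonab ⟨⟨fun a b => mem_center_iff.1 (e ▸ mem_top b) a⟩⟩

theorem no_complement {p : ℕ} [Fact p.Prime] (hp : p ∣ Nat.card G) :
    ¬ Cfsg.HasNormalPComplement p G := by
  haveI := H.simple
  rintro ⟨P, N, hN, hc⟩
  have hcard := hc.card_mul
  rcases hN.eq_bot_or_eq_top with rfl | rfl
  · refine H.not_solvable ?_
    rw [card_bot, one_mul] at hcard
    have hP : (P : Subgroup G) = ⊤ := eq_top_of_card_eq _ hcard
    have hG : IsPGroup p G :=
      (IsPGroup.iff_card).2 ⟨(Nat.card G).factorization p, by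
        rw [← P.card_eq_multiplicity, hcard]⟩
    haveI := hG.isNilpotent
    infer_instance
  · rw [card_top, P.card_eq_multiplicity] at hcard
    have hpos : 0 < (Nat.card G).factorization p :=
      Nat.Prime.factorization_pos_of_dvd Fact.out Nat.card_pos.ne' hp
    have h2 : 2 ≤ p ^ (Nat.card G).factorization p :=
      le_trans (Fact.out : p.Prime).two_le (Nat.le_self_pow hpos.ne' p)
    have := Nat.card_pos (α := G)
    nlinarith

theorem card_ix {x : G} (hx : x ≠ 1) : ((cent x).index).primeFactors.card = 2 := by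
  haveI := H.simple
  refine le_antisymm (H.two x) ?_
  by_contra hlt
  have hn : (cent x).index ≠ 0 := index_ne_zero_of_finite
  obtain ⟨p, k, hp, he⟩ : ∃ p k, p.Prime ∧ (cent x).index = p ^ k := by
    by_cases h1 : (cent x).index = 1
    · exact ⟨2, 0, Nat.prime_two, by simpa using h1⟩
    · have hpp : IsPrimePow (cent x).index := by
        rw [isPrimePow_iff_card_primeFactors_eq_one]
        have : ((cent x).index).primeFactors.Nonempty := by
          obtain ⟨p, hp, hd⟩ := Nat.exists_prime_and_dvd h1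
          exact ⟨p, Nat.mem_primeFactors.2 ⟨hp, hd, hn⟩⟩
        have := this.card_pos
        omega
      obtain ⟨p, k, hp, -, he⟩ := (isPrimePow_nat_iff _).1 hpp
      exact ⟨p, k, hp, he.symm⟩
  have hcard := Char.prime_card_of_class_prime_pow hp x hx he
  haveI := Fact.mk hcard
  haveI := isCyclic_of_prime_card (p := Nat.card G) rfl
  exact H.nonab IsCyclic.isMulCommutative

theorem typ_filter {x : G} :
    ((Nat.card G).primeFactors.filter fun p => ¬ p ∣ (cent x).index).card +
      ((cent x).index).primeFactors.card = (Nat.card G).primeFactors.card := by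
  classical
  have hsub : ((cent x).index).primeFactors =
      (Nat.card G).primeFactors.filter fun p => p ∣ (cent x).index := by
    ext p
    simp only [Nat.mem_primeFactors, Finset.mem_filter]
    constructor
    · exact fun ⟨hp, hd, _⟩ => ⟨⟨hp, hd.trans (index_dvd_card _), Nat.card_pos.ne'⟩, hd⟩
    · exact fun ⟨⟨hp, _, _⟩, hd⟩ => ⟨hp, hd, index_ne_zero_of_finite⟩
  rw [hsub, add_comm]
  exact Finset.card_filter_add_card_filter_not _

theorem two_mul_reg_le {p : ℕ} (hp : p ∈ (Nat.card G).primeFactors) :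
    2 * (ClassCover.regSet (G := G) p).ncard ≤ Nat.card G := by
  rw [Nat.mem_primeFactors] at hp
  haveI := Fact.mk hp.1
  exact ClassCover.two_mul_ncard_regSet_le p (H.no_complement hp.2.1)

theorem sum_reg :
    ((Nat.card G).primeFactors.card - 2) * Nat.card G + 2 =
      ∑ p ∈ (Nat.card G).primeFactors, (ClassCover.regSet (G := G) p).ncard := by
  classical
  haveI := Fintype.ofFinite G
  have hreg : ∀ p, (ClassCover.regSet (G := G) p).ncard =
      ((Finset.univ : Finset G).filter fun x => ¬ p ∣ (cent x).index).card := fun p => by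
    rw [← Set.ncard_coe_finset]
    congr 1
    ext x
    simp [ClassCover.regSet, cent]
  simp only [hreg, Finset.card_filter]
  rw [Finset.sum_comm]
  simp only [← Finset.card_filter]
  rw [← Finset.add_sum_erase _ _ (Finset.mem_univ (1 : G))]
  have h1 : ((Nat.card G).primeFactors.filter fun p => ¬ p ∣ (cent (1 : G)).index).card =
      (Nat.card G).primeFactors.card := by
    rw [Finset.filter_true_of_mem]
    intro p hp
    rw [index_cent_eq_one_iff.2 (one_mem _)]
    exact fun hd => (Nat.prime_of_mem_primeFactors hp).one_lt.ne' (Nat.eq_one_of_dvd_one hd)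
  have h2 : ∀ x ∈ (Finset.univ : Finset G).erase 1,
      ((Nat.card G).primeFactors.filter fun p => ¬ p ∣ (cent x).index).card =
        (Nat.card G).primeFactors.card - 2 := by
    intro x hx
    have := H.typ_filter (x := x)
    rw [H.card_ix (Finset.ne_of_mem_erase hx)] at this
    omega
  rw [h1, Finset.sum_congr rfl h2, Finset.sum_const, Finset.card_erase_of_mem (Finset.mem_univ _),
    Finset.card_univ, ← Nat.card_eq_fintype_card, smul_eq_mul]
  have h3 : 2 ≤ (Nat.card G).primeFactors.card := by
    haveI : Nontrivial G := H.simple.toNontrivial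
    obtain ⟨x, hx⟩ := exists_ne (1 : G)
    have := H.typ_filter (x := x)
    rw [H.card_ix hx] at this
    omega
  obtain ⟨c, hc⟩ : ∃ c, (Nat.card G).primeFactors.card = c + 2 := ⟨_, (Nat.sub_add_cancel h3).symm⟩
  obtain ⟨n, hn⟩ : ∃ n, Nat.card G = n + 1 :=
    ⟨_, (Nat.sub_add_cancel (Nat.card_pos (α := G))).symm⟩
  rw [hc, hn]
  simp only [Nat.add_sub_cancel]
  ring

theorem card_pi : (Nat.card G).primeFactors.card = 3 := by
  classical
  set π := (Nat.card G).primeFactors with hπ
  have h3 : 3 ≤ π.card := by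
    by_contra hlt
    refine H.not_solvable ?_
    have hprod := Nat.prod_primeFactors_pow_factorization (Nat.card_pos (α := G)).ne'
    have hle : π.card ≤ 2 := by omega
    rcases Nat.lt_or_ge π.card 2 with hc | hc
    · rcases (show π.card = 0 ∨ π.card = 1 by omega) with hc0 | hc1
      · rw [← hπ, Finset.card_eq_zero.1 hc0, Finset.prod_empty] at hprod
        exact Char.isSolvable_of_card_pq 2 3 Nat.prime_two Nat.prime_three _ G rfl
          ⟨0, 0, by simpa using hprod⟩
      · obtain ⟨p, hp⟩ := Finset.card_eq_one.1 hc1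
        have hpp : p.Prime := Nat.prime_of_mem_primeFactors (hπ ▸ hp ▸ Finset.mem_singleton_self p)
        rw [← hπ, hp, Finset.prod_singleton] at hprod
        haveI := Fact.mk hpp
        haveI := (IsPGroup.of_card hprod).isNilpotent
        infer_instance
    · obtain ⟨p, q, hpq, hp⟩ := Finset.card_eq_two.1 (le_antisymm hle hc)
      have hpp : p.Prime := Nat.prime_of_mem_primeFactors (hπ ▸ hp ▸ Finset.mem_insert_self p _)
      have hqq : q.Prime := Nat.prime_of_mem_primeFactors
        (hπ ▸ hp ▸ Finset.mem_insert_of_mem (Finset.mem_singleton_self q))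
      rw [← hπ, hp, Finset.prod_pair hpq] at hprod
      exact Char.isSolvable_of_card_pq p q hpp hqq _ G rfl ⟨_, _, hprod⟩
  refine le_antisymm ?_ h3
  by_contra hlt
  have h1 : ((π.card - 2) * Nat.card G + 2) * 2 ≤ π.card * Nat.card G := by
    rw [H.sum_reg, Finset.sum_mul]
    refine (Finset.sum_le_card_nsmul π _ _ fun p hp => ?_).trans (le_of_eq (smul_eq_mul _ _))
    have := H.two_mul_reg_le hp
    omega
  obtain ⟨c, hc⟩ : ∃ c, π.card = c + 4 := ⟨π.card - 4, by omega⟩
  rw [hc, show c + 4 - 2 = c + 2 by omega] at h1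
  have := Nat.card_pos (α := G)
  nlinarith

theorem sum_reg_three :
    ∑ p ∈ (Nat.card G).primeFactors, (ClassCover.regSet (G := G) p).ncard = Nat.card G + 2 := by
  rw [← H.sum_reg, H.card_pi]
  simp

theorem exists_typ {x : G} (hx : x ≠ 1) : ∃ p ∈ (Nat.card G).primeFactors, Typ p x := by
  classical
  have := H.typ_filter (x := x)
  rw [H.card_ix hx, H.card_pi] at this
  obtain ⟨p, hp⟩ := Finset.card_pos.1 (show 0 < ((Nat.card G).primeFactors.filter
    fun p => ¬ p ∣ (cent x).index).card by omega)
  rw [Finset.mem_filter] at hp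
  exact ⟨p, hp.1, hp.2⟩

theorem typ_unique {x : G} (hx : x ≠ 1) {p q : ℕ} (hp : p ∈ (Nat.card G).primeFactors)
    (hq : q ∈ (Nat.card G).primeFactors) (tp : Typ p x) (tq : Typ q x) : p = q := by
  classical
  have := H.typ_filter (x := x)
  rw [H.card_ix hx, H.card_pi] at this
  exact Finset.card_le_one.1 (show ((Nat.card G).primeFactors.filter
    fun p => ¬ p ∣ (cent x).index).card ≤ 1 by omega) p (Finset.mem_filter.2 ⟨hp, tp⟩) q
    (Finset.mem_filter.2 ⟨hq, tq⟩)

/-- Commuting nontrivial elements of coprime orders have the same type. -/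
theorem typ_commute {a b : G} (hab : Commute a b) {l m : ℕ} (hl : l.Prime) (hm : m.Prime)
    (hlm : l ≠ m) (ha : PEl l a) (hb : PEl m b) (ha1 : a ≠ 1) (hb1 : b ≠ 1) {p q : ℕ}
    (hp : p ∈ (Nat.card G).primeFactors) (hq : q ∈ (Nat.card G).primeFactors) (tp : Typ p a)
    (tq : Typ q b) : p = q := by
  obtain ⟨i, hi⟩ := ha
  obtain ⟨j, hj⟩ := hb
  obtain ⟨x, y, hx, hy⟩ := exists_pow_mul hab (((Nat.coprime_primes hl hm).2 hlm).pow i j) hi hj
  have hne : a * b ≠ 1 := fun e => ha1 (by rw [← hx, e, one_pow])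
  obtain ⟨s, hs, ts⟩ := H.exists_typ hne
  have h1 := H.typ_unique ha1 hs hp (hx ▸ ts.pow x) tp
  have h2 := H.typ_unique hb1 hs hq (hy ▸ ts.pow y) tq
  omega

theorem exists_primes : ∃ q r : ℕ, q.Prime ∧ r.Prime ∧ q ≠ 2 ∧ r ≠ 2 ∧ q ≠ r ∧
    (Nat.card G).primeFactors = {2, q, r} := by
  classical
  have h2 : 2 ∈ (Nat.card G).primeFactors := by
    refine Nat.mem_primeFactors.2 ⟨Nat.prime_two, ?_, Nat.card_pos.ne'⟩
    by_contra h
    exact H.not_solvable (OddChar.oddSolvable G (Nat.not_even_iff_odd.1 fun he => h he.two_dvd))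
  have hc : ((Nat.card G).primeFactors.erase 2).card = 2 := by
    rw [Finset.card_erase_of_mem h2, H.card_pi]
  obtain ⟨q, r, hqr, he⟩ := Finset.card_eq_two.1 hc
  have hq : q ∈ (Nat.card G).primeFactors.erase 2 := he ▸ Finset.mem_insert_self _ _
  have hr : r ∈ (Nat.card G).primeFactors.erase 2 :=
    he ▸ Finset.mem_insert_of_mem (Finset.mem_singleton_self _)
  rw [Finset.mem_erase] at hq hr
  exact ⟨q, r, Nat.prime_of_mem_primeFactors hq.2, Nat.prime_of_mem_primeFactors hr.2, hq.1, hr.1,
    hqr, by rw [← he, Finset.insert_erase h2]⟩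

end Hyp

/-- The prime divisors of the order. -/
structure Primes (G : Type u) [Group G] (q r : ℕ) : Prop where
  hq : q.Prime
  hr : r.Prime
  q2 : q ≠ 2
  r2 : r ≠ 2
  qr : q ≠ r
  pi : (Nat.card G).primeFactors = {2, q, r}

namespace Primes

variable [Finite G] {q r : ℕ} (R : Primes G q r)

include R

theorem swap : Primes G r q :=
  ⟨R.hr, R.hq, R.r2, R.q2, R.qr.symm, by rw [R.pi]; ext l; simp; tauto⟩

theorem mem_two : 2 ∈ (Nat.card G).primeFactors := by rw [R.pi]; simp
theorem mem_q : q ∈ (Nat.card G).primeFactors := by rw [R.pi]; simp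
theorem mem_r : r ∈ (Nat.card G).primeFactors := by rw [R.pi]; simp

theorem cases {l : ℕ} (hl : l.Prime) (hd : l ∣ Nat.card G) : l = 2 ∨ l = q ∨ l = r := by
  have : l ∈ (Nat.card G).primeFactors := Nat.mem_primeFactors.2 ⟨hl, hd, Nat.card_pos.ne'⟩
  rw [R.pi] at this
  simpa using this

end Primes

namespace Hyp

variable [Finite G] (H : Hyp G) {q r : ℕ} [Fact q.Prime] [Fact r.Prime] (R : Primes G q r)

include H R

theorem k_ineq (T : Sylow 2 G) (Q : Sylow q G) (S : Sylow r G) :
    kk (T : Subgroup G) * kk (Q : Subgroup G) * kk (S : Subgroup G) <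
      kk (Q : Subgroup G) * kk (S : Subgroup G) + kk (T : Subgroup G) * kk (S : Subgroup G) +
        kk (T : Subgroup G) * kk (Q : Subgroup G) := by
  have hsum := H.sum_reg_three
  rw [R.pi, Finset.sum_insert (by simp [R.q2.symm, R.r2.symm]),
    Finset.sum_insert (by simp [R.qr]), Finset.sum_singleton] at hsum
  have h2 : (ClassCover.regSet (G := G) 2).ncard * kk (T : Subgroup G) ≤ Nat.card G :=
    ncard_reg_mul_le T
  have hq' : (ClassCover.regSet (G := G) q).ncard * kk (Q : Subgroup G) ≤ Nat.card G :=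
    ncard_reg_mul_le Q
  have hr' : (ClassCover.regSet (G := G) r).ncard * kk (S : Subgroup G) ≤ Nat.card G :=
    ncard_reg_mul_le S
  have hp2 : 2 ≤ kk (T : Subgroup G) :=
    two_le_relIndex (H.no_complement (Nat.dvd_of_mem_primeFactors R.mem_two)) T
  have hpq : 2 ≤ kk (Q : Subgroup G) :=
    two_le_relIndex (H.no_complement (Nat.dvd_of_mem_primeFactors R.mem_q)) Q
  have hpr : 2 ≤ kk (S : Subgroup G) :=
    two_le_relIndex (H.no_complement (Nat.dvd_of_mem_primeFactors R.mem_r)) S
  generalize kk (T : Subgroup G) = a at *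
  generalize kk (Q : Subgroup G) = b at *
  generalize kk (S : Subgroup G) = c at *
  generalize (ClassCover.regSet (G := G) 2).ncard = x at *
  generalize (ClassCover.regSet (G := G) q).ncard = y at *
  generalize (ClassCover.regSet (G := G) r).ncard = z at *
  generalize Nat.card G = n at *
  by_contra hle
  have e1 : x * a * (b * c) ≤ n * (b * c) := Nat.mul_le_mul_right _ h2
  have e2 : y * b * (a * c) ≤ n * (a * c) := Nat.mul_le_mul_right _ hq'
  have e3 : z * c * (a * b) ≤ n * (a * b) := Nat.mul_le_mul_right _ hr'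
  have e4 : (b * c + a * c + a * b) * n ≤ a * b * c * n := Nat.mul_le_mul_right _ (not_lt.1 hle)
  have e5 : (n + 2) * (a * b * c) ≤ n * (a * b * c) := by
    rw [← hsum]
    nlinarith
  have : 0 < a * b * c := by positivity
  nlinarith

theorem three_le_kk_two (T : Sylow 2 G) : 3 ≤ kk (T : Subgroup G) := by
  have hp2 : 2 ≤ kk (T : Subgroup G) :=
    two_le_relIndex (H.no_complement (Nat.dvd_of_mem_primeFactors R.mem_two)) T
  by_cases hc : IsMulCommutative (T : Subgroup G)
  · have h : ¬ 2 ∣ kk (T : Subgroup G) := not_dvd_relIndex_of_comm T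
    omega
  · have h : 2 ^ 2 ∣ kk (T : Subgroup G) := sq_dvd_relIndex_of_not_comm T hc
    have := Nat.le_of_dvd (by omega) h
    omega

theorem comm_odd (Q : Sylow q G) : IsMulCommutative (Q : Subgroup G) := by
  by_contra hc
  obtain ⟨T⟩ : Nonempty (Sylow 2 G) := inferInstance
  obtain ⟨S⟩ : Nonempty (Sylow r G) := inferInstance
  have h := H.k_ineq R T Q S
  have h2 := H.three_le_kk_two R T
  have hq2 : q ^ 2 ∣ kk (Q : Subgroup G) := sq_dvd_relIndex_of_not_comm Q hc
  have hk0 : kk (Q : Subgroup G) ≠ 0 := index_ne_zero_of_finite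
  have h9 : 9 ≤ kk (Q : Subgroup G) := by
    refine le_trans ?_ (Nat.le_of_dvd (Nat.pos_of_ne_zero hk0) hq2)
    have : 3 ≤ q := by have := R.hq.two_le; have := R.q2; omega
    nlinarith
  have hS : 2 ≤ kk (S : Subgroup G) :=
    two_le_relIndex (H.no_complement (Nat.dvd_of_mem_primeFactors R.mem_r)) S
  generalize kk (T : Subgroup G) = a at *
  generalize kk (Q : Subgroup G) = b at *
  generalize kk (S : Subgroup G) = c at *
  nlinarith [Nat.mul_le_mul h2 h9, Nat.mul_le_mul (Nat.mul_le_mul h2 h9) hS,
    Nat.mul_le_mul h2 hS, Nat.mul_le_mul h9 hS]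

end Hyp

end Cfsg.Agent.TwoPrimes
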