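import Cfsg.Agent.Lib.TwoPrimes.CaseTwo

/-!
Sylow subgroups of the simple groups with two-prime class sizes.
-/

set_option autoImplicit false
set_option linter.style.haveILetI false
set_option linter.unusedSectionVars false

namespace Cfsg.Agent.TwoPrimes

open Subgroup ThreeSizes

universe u

variable {G : Type u} [Group G] [Finite G]

theorem mem_sylow_of_mem_normalizer {p : ℕ} [Fact p.Prime] (P : Sylow p G) {x : G}
    (hx : PEl p x) (hN : x ∈ normalizer ((P : Subgroup G) : Set G)) : x ∈ (P : Subgroup G) :=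
  (P.is_maximal' (IsPGroup.to_sup_of_normal_left' P.isPGroup' (pel_zpowers hx)
    (zpowers_le.2 hN)) le_sup_left).le (mem_sup_right (mem_zpowers x))

theorem sylow_exists_ne_one {p : ℕ} [hp : Fact p.Prime] (hd : p ∣ Nat.card G) (P : Sylow p G) :
    ∃ x ∈ (P : Subgroup G), x ≠ 1 := by
  by_contra hcon
  push Not at hcon
  have h := P.card_eq_multiplicity
  rw [(eq_bot_iff_forall _).2 hcon, card_bot] at h
  exact (one_lt_pow₀ hp.out.one_lt
    (hp.out.factorization_pos_of_dvd Nat.card_pos.ne' hd).ne').ne h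

namespace Hyp

variable (H : Hyp G) {p : ℕ} [Fact p.Prime]

include H

theorem cent_sylow (P : Sylow p G) {x : G} (hx : x ∈ (P : Subgroup G)) (h1 : x ≠ 1) :
    cent x = (P : Subgroup G) :=
  H.cent_eq_sylow (fun l _ P => H.all_comm l P) P hx h1

theorem centralizer_sylow (hd : p ∣ Nat.card G) (P : Sylow p G) :
    centralizer ((P : Subgroup G) : Set G) = (P : Subgroup G) := by
  haveI := H.all_comm p P
  refine le_antisymm (fun y hy => ?_) (le_centralizer _)
  obtain ⟨x, hx, hx1⟩ := sylow_exists_ne_one hd P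
  exact (H.cent_sylow P hx hx1).le (mem_cent.2 (mem_centralizer_iff.1 hy x hx).symm)

theorem card_normalizer (hd : p ∣ Nat.card G) (P : Sylow p G) :
    Nat.card (normalizer ((P : Subgroup G) : Set G)) = kk (P : Subgroup G) * Nat.card P := by
  rw [card_eq_card_mul_relIndex (centralizer_le_normalizer' (P : Subgroup G)), mul_comm]
  simp only [kk, H.centralizer_sylow hd P]

theorem two_le_kk (hd : p ∣ Nat.card G) (P : Sylow p G) : 2 ≤ kk (P : Subgroup G) :=
  two_le_relIndex (H.no_complement hd) P

/-- A nontrivial element of a Sylow subgroup normalizes no other one. -/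
theorem eq_of_normalizes (P R : Sylow p G) {x : G} (hx : x ∈ (P : Subgroup G)) (h1 : x ≠ 1)
    (hN : x ∈ normalizer ((R : Subgroup G) : Set G)) : R = P :=
  Sylow.ext ((H.cent_sylow R (mem_sylow_of_mem_normalizer R
    (PEl.of_isPGroup P.isPGroup' hx) hN) h1).symm.trans (H.cent_sylow P hx h1))

theorem dvd_card_sylow_sub_one (P : Sylow p G) :
    Nat.card P ∣ Nat.card (Sylow p G) - 1 := by
  classical
  haveI := Fintype.ofFinite (Sylow p G)
  haveI := Fintype.ofFinite (MulAction.orbitRel.Quotient (P : Subgroup G) (Sylow p G))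
  have e := MulAction.selfEquivSigmaOrbitsQuotientStabilizer (P : Subgroup G) (Sylow p G)
  have hsum := Nat.card_congr e
  rw [Nat.card_sigma] at hsum
  set ω₀ : MulAction.orbitRel.Quotient (P : Subgroup G) (Sylow p G) := Quotient.mk'' P
  have hfixP : ∀ g : (P : Subgroup G), g • P = P := fun g =>
    Sylow.smul_eq_iff_mem_normalizer.2 (le_normalizer g.2)
  have hout : (ω₀.out : Sylow p G) = P := by
    have h : MulAction.orbitRel (P : Subgroup G) (Sylow p G) ω₀.out P := Quotient.mk_out P
    obtain ⟨g, hg⟩ := MulAction.orbitRel_apply.1 h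
    rw [← hg]
    exact hfixP g
  have h0 : Nat.card ((P : Subgroup G) ⧸ MulAction.stabilizer (P : Subgroup G) ω₀.out) = 1 := by
    rw [hout, show MulAction.stabilizer (P : Subgroup G) P = ⊤ from
      (eq_top_iff' _).2 fun g => MulAction.mem_stabilizer_iff.2 (hfixP g)]
    exact index_top
  rw [← Finset.add_sum_erase _ _ (Finset.mem_univ ω₀), h0] at hsum
  rw [hsum, Nat.add_sub_cancel_left]
  refine Finset.dvd_sum fun ω hω => ?_
  have hne : (ω.out : Sylow p G) ≠ P := fun h => (Finset.ne_of_mem_erase hω) (by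
    rw [← Quotient.out_eq' ω, h])
  have hbot : MulAction.stabilizer (P : Subgroup G) ω.out = ⊥ := by
    rw [eq_bot_iff_forall]
    intro g hg
    by_contra hg1
    exact hne (H.eq_of_normalizes P ω.out g.2 (fun h => hg1 (Subtype.ext h))
      (Sylow.smul_eq_iff_mem_normalizer.1 (MulAction.mem_stabilizer_iff.1 hg)))
  rw [hbot]
  exact dvd_of_eq (show Nat.card P = (⊥ : Subgroup (P : Subgroup G)).index from index_bot.symm)

theorem card_sylow_ne_one (hd : p ∣ Nat.card G) : Nat.card (Sylow p G) ≠ 1 := by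
  intro h
  haveI := H.simple
  obtain ⟨P⟩ : Nonempty (Sylow p G) := inferInstance
  haveI : Subsingleton (Sylow p G) := (Nat.card_eq_one_iff_unique.1 h).1
  obtain ⟨x, hx, hx1⟩ := sylow_exists_ne_one hd P
  rcases (P.normal_of_subsingleton).eq_bot_or_eq_top with e | e
  · rw [e, mem_bot] at hx
    exact hx1 hx
  · haveI := H.all_comm p P
    exact H.nonab ⟨⟨fun a b => congrArg Subtype.val
      (mul_comm' (⟨a, e ▸ mem_top a⟩ : (P : Subgroup G)) ⟨b, e ▸ mem_top b⟩)⟩⟩

theorem sylow_two_count {f : ℕ} (hf : f = 2 ∨ f = 3)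
    (hcard : Nat.card G = 2 ^ f * ((2 ^ f - 1) * (2 ^ f + 1))) [Fact (Nat.Prime 2)]
    (P : Sylow 2 G) : Nat.card P = 2 ^ f ∧ Nat.card (Sylow 2 G) = 2 ^ f + 1 ∧
      kk (P : Subgroup G) = 2 ^ f - 1 := by
  have hd : 2 ∣ Nat.card G := by
    rw [hcard]
    exact (dvd_pow_self 2 (by omega)).mul_right _
  haveI := H.all_comm 2 P
  have hodd : ¬ 2 ∣ kk (P : Subgroup G) := not_dvd_relIndex_of_comm P
  have hk : 2 ≤ kk (P : Subgroup G) := H.two_le_kk hd P
  have hdv := H.dvd_card_sylow_sub_one P
  have hn1 := H.card_sylow_ne_one hd (p := 2)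
  have hn := P.card_eq_index_normalizer
  have hmul : Nat.card (normalizer ((P : Subgroup G) : Set G)) * Nat.card (Sylow 2 G) =
      Nat.card G := by
    rw [hn]; exact card_mul_index _
  rw [H.card_normalizer hd P] at hmul
  have hPc : Nat.card P = 2 ^ f := by
    rw [P.card_eq_multiplicity, hcard, Nat.factorization_mul (by positivity)
      (by rcases hf with rfl | rfl <;> norm_num), Finsupp.add_apply,
      Nat.prime_two.factorization_pow, Finsupp.single_eq_same,
      Nat.factorization_eq_zero_of_not_dvd (n := (2 ^ f - 1) * (2 ^ f + 1))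
        (by rcases hf with rfl | rfl <;> norm_num), add_zero]
  rw [hPc, hcard] at hmul
  rw [hPc] at hdv
  refine ⟨hPc, ?_⟩
  generalize kk (P : Subgroup G) = k at *
  generalize Nat.card (Sylow 2 G) = n at *
  rcases hf with rfl | rfl <;> norm_num at hmul hdv ⊢
  · have h15 : k * n = 15 := by nlinarith
    have : n ≤ 15 := by nlinarith
    interval_cases n <;> omega
  · have h63 : k * n = 63 := by nlinarith
    have : n ≤ 63 := by nlinarith
    interval_cases n <;> omega

end Hyp

end Cfsg.Agent.TwoPrimes
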